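import Cfsg.Agent.Lib.PronormalHalf.Moment

/-!
First reductions: the bound holds unless the degree is exactly twice the number of fixed
points; the orbit count for the pointwise stabilizers of parts of `F`.
-/

set_option autoImplicit false
set_option linter.unusedSectionVars false

open scoped Pointwise
open MulAction

namespace Cfsg.Agent.PronHalf

universe u v

noncomputable section

attribute [local instance] Classical.propDecidable

variable {G : Type u} [Group G] {α : Type v} [Fintype α] [DecidableEq α] [MulAction G α]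

/-- Tuples of length at most `t` are permuted transitively. -/
def Upto (G : Type u) [Group G] (α : Type v) [MulAction G α] (t : ℕ) : Prop :=
  ∀ j, j ≤ t → ∀ a b : Fin j → α, Function.Injective a → Function.Injective b →
    ∃ g : G, ∀ l, g • a l = b l

theorem Upto.exists_map {t : ℕ} (h : Upto G α t) {ι : Type*} [Fintype ι] {a b : ι → α}
    (hι : Fintype.card ι ≤ t) (ha : Function.Injective a) (hb : Function.Injective b) :
    ∃ g : G, ∀ l, g • a l = b l := by
  obtain ⟨g, hg⟩ := h _ hι (a ∘ (Fintype.equivFin ι).symm) (b ∘ (Fintype.equivFin ι).symm)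
    (ha.comp (Equiv.injective _)) (hb.comp (Equiv.injective _))
  exact ⟨g, fun l => by simpa using hg (Fintype.equivFin ι l)⟩

theorem Upto.exists_smul_eq {t : ℕ} (h : Upto G α t) {A B : Finset α} (hA : A.card ≤ t)
    (hAB : A.card = B.card) : ∃ g : G, g • A = B := by
  obtain ⟨g, hg⟩ := h.exists_map (ι := A) (a := fun x => (x : α))
    (b := fun x => ((Finset.equivOfCardEq hAB x : B) : α)) (by simpa using hA)
    Subtype.val_injective (Subtype.val_injective.comp (Equiv.injective _))
  refine ⟨g, Finset.eq_of_subset_of_card_le ?_ (by rw [Finset.card_smul_finset, hAB])⟩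
  intro y hy
  obtain ⟨x, hx, rfl⟩ := Finset.mem_smul_finset.1 hy
  rw [hg ⟨x, hx⟩]
  exact (Finset.equivOfCardEq hAB ⟨x, hx⟩).2

theorem Upto.homog [Fintype G] {t : ℕ} (h : Upto G α t) : Homog G (Finset.univ : Finset α) t :=
  ⟨fun _ _ _ => Finset.mem_univ _, fun _ _ _ _ hA hAB => h.exists_smul_eq hA hAB⟩

theorem upto_one [IsPretransitive G α] : Upto G α 1 := by
  intro j hj a b _ _
  rcases (show j = 0 ∨ j = 1 by omega) with rfl | rfl
  · exact ⟨1, fun l => l.elim0⟩
  · obtain ⟨g, hg⟩ := exists_smul_eq G (a 0) (b 0)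
    exact ⟨g, fun l => by rw [Fin.fin_one_eq_zero l]; exact hg⟩

/-- One more step of transitivity from the transitivity of the pointwise stabilizers. -/
theorem Upto.succ {t : ℕ} {F : Finset α} (h : Upto G α t) (ht : t ≤ F.card)
    (hA : ∀ A : Finset α, A ⊆ F → A.card = t → ∀ x y, x ∉ A → y ∉ A →
      y ∈ orb (fixingSubgroup G (A : Set α)) x) :
    Upto G α (t + 1) := by
  intro j hj a b ha hb
  rcases Nat.lt_or_ge j (t + 1) with hj' | hj'
  · exact h j (by omega) a b ha hb
  obtain rfl : j = t + 1 := le_antisymm hj hj'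
  obtain ⟨A, hAF, hAc⟩ := Finset.exists_subset_card_eq ht
  set c : Fin t → α := fun l => ((A.equivFinOfCardEq hAc).symm l : α) with hc
  have hcinj : Function.Injective c := Subtype.val_injective.comp (Equiv.injective _)
  obtain ⟨g1, h1⟩ := h t le_rfl (a ∘ Fin.castSucc) c
    (ha.comp (Fin.castSucc_injective _)) hcinj
  obtain ⟨g2, h2⟩ := h t le_rfl (b ∘ Fin.castSucc) c
    (hb.comp (Fin.castSucc_injective _)) hcinj
  have notmem : ∀ (d : Fin (t + 1) → α) (g : G), Function.Injective d →
      (∀ l, g • (d ∘ Fin.castSucc) l = c l) → g • d (Fin.last t) ∉ A := by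
    intro d g hd hg hmem
    set l : Fin t := A.equivFinOfCardEq hAc ⟨_, hmem⟩ with hl
    have : c l = g • d (Fin.last t) := by simp [hc, hl]
    rw [← hg l] at this
    exact Fin.castSucc_ne_last l (hd (MulAction.injective g this))
  obtain ⟨k, hk, hkk⟩ := mem_orb.1
    (hA A hAF hAc _ _ (notmem a g1 ha h1) (notmem b g2 hb h2))
  refine ⟨g2⁻¹ * k * g1, fun l => ?_⟩
  rw [mul_smul, mul_smul, inv_smul_eq_iff]
  refine Fin.lastCases ?_ (fun i => ?_) l
  · exact hkk
  · have e1 := h1 i
    have e2 := h2 i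
    simp only [Function.comp_apply] at e1 e2
    rw [e1, e2]
    exact mem_fixing.1 hk _ ((A.equivFinOfCardEq hAc).symm i).2

/-- Some translate of `F` contains `A` but not `b`. -/
def Sep (G : Type u) [Group G] {α : Type v} [DecidableEq α] [MulAction G α]
    (F A : Finset α) (b : α) : Prop :=
  ∃ g : G, A ⊆ g • F ∧ b ∉ g • F

namespace Good

variable {F : Finset α} (hF : Good G F)
include hF

/-- The stabilizer of `F` is as transitive on `F` as `G` is on the points. -/
theorem stab_map {t : ℕ} (h : Upto G α t) {ι : Type*} [Fintype ι] {a b : ι → α}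
    (hι : Fintype.card ι ≤ t) (ha : Function.Injective a) (hb : Function.Injective b)
    (haF : ∀ l, a l ∈ F) (hbF : ∀ l, b l ∈ F) :
    ∃ u : G, u • F = F ∧ ∀ l, u • a l = b l := by
  obtain ⟨g, hg⟩ := h.exists_map hι ha hb
  obtain ⟨w, hw, hwF⟩ := hF.ext (g := g) (E := Finset.univ.image b)
    (by intro x hx; obtain ⟨l, -, rfl⟩ := Finset.mem_image.1 hx; exact hbF l)
    (by intro x hx; obtain ⟨l, -, rfl⟩ := Finset.mem_image.1 hx
        rw [← hg l]; exact Finset.smul_mem_smul_finset (haF l))
  refine ⟨w⁻¹ * g, by rw [mul_smul, ← hwF, inv_smul_smul], fun l => ?_⟩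
  rw [mul_smul, hg, inv_smul_eq_iff, mem_fixing.1 hw _ (Finset.mem_image_of_mem _ (Finset.mem_univ l))]

theorem lt_orb_card {t : ℕ} (h : Upto G α t) (ht : t ≤ F.card) {c : α} (hc : c ∉ F) :
    t < (orb (fixingSubgroup G (F : Set α)) c).card := by
  by_contra hle
  push Not at hle
  set R := orb (fixingSubgroup G (F : Set α)) c
  obtain ⟨B, hB, hBc⟩ := Finset.exists_subset_card_eq (hle.trans ht)
  obtain ⟨g, hg⟩ := h.exists_smul_eq (A := B) (B := R) (hBc ▸ hle) hBc
  refine hF.orb_not_subset hc g ?_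
  show R ⊆ g • F
  rw [← hg]
  exact Finset.smul_finset_subset_smul_finset hB

theorem orb_not_subset_of_sep {A : Finset α} (hA : A ⊆ F) {b : α} (hb : Sep G F A b) :
    ¬ orb (fixingSubgroup G (A : Set α)) b ⊆ F := by
  obtain ⟨g, hg1, hg2⟩ := hb
  obtain ⟨w, hw, hwF⟩ := hF.ext hA hg1
  intro hsub
  refine hg2 ?_
  rw [← hwF, ← Finset.inv_smul_mem_iff]
  exact hsub (mem_orb.2 ⟨w⁻¹, Subgroup.inv_mem _ hw, rfl⟩)

omit hF in
theorem orb_disjoint_fixed {A : Finset α} {b : α} (hb : b ∉ A) {w : α}
    (hw : w ∈ orb (fixingSubgroup G (A : Set α)) b) : w ∉ A := by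
  intro hwA
  obtain ⟨k, hk, rfl⟩ := mem_orb.1 hw
  have h1 : k⁻¹ • (k • b) = k • b := mem_fixing.1 (Subgroup.inv_mem _ hk) _ hwA
  rw [inv_smul_smul] at h1
  exact hb (h1 ▸ hwA)

omit hF in
theorem orb_card_lt {A : Finset α} (hA : A.Nonempty) {b : α} (hb : b ∉ A) :
    (orb (fixingSubgroup G (A : Set α)) b).card < Fintype.card α := by
  obtain ⟨a, ha⟩ := hA
  rw [Finset.card_lt_iff_ne_univ]
  intro h
  exact orb_disjoint_fixed (G := G) hb (h ▸ Finset.mem_univ a) ha

/-- The orbits outside `A` of the pointwise stabilizer of `A ⊆ F`. -/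
theorem slack [Finite G] (ih : Bound.{u, v} (Fintype.card α)) {A : Finset α} (hA : A ⊆ F)
    (hne : A.Nonempty) (hsep : ∀ b, b ∉ A → Sep G F A b) :
    let 𝒪 := (Finset.univ \ A).image (orb (fixingSubgroup G (A : Set α)))
    (∀ O ∈ 𝒪, 2 * (F ∩ O).card + 1 ≤ O.card) ∧
      ∑ O ∈ 𝒪, O.card = Fintype.card α - A.card ∧
      ∑ O ∈ 𝒪, (F ∩ O).card = F.card - A.card := by
  intro 𝒪
  have hfib : ∀ O ∈ 𝒪,
      (Finset.univ \ A).filter (fun b => orb (fixingSubgroup G (A : Set α)) b = O) = O := by
    intro O hO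
    obtain ⟨b, hb, rfl⟩ := Finset.mem_image.1 hO
    have hb' : b ∉ A := (Finset.mem_sdiff.1 hb).2
    ext w
    simp only [Finset.mem_filter, Finset.mem_sdiff, Finset.mem_univ, true_and]
    constructor
    · rintro ⟨-, h⟩; exact h ▸ self_mem_orb _ w
    · exact fun h => ⟨orb_disjoint_fixed hb' h, orb_eq_of_mem h⟩
  refine ⟨?_, ?_, ?_⟩
  · intro O hO
    obtain ⟨b, hb, rfl⟩ := Finset.mem_image.1 hO
    have hb' : b ∉ A := (Finset.mem_sdiff.1 hb).2
    exact hF.orbit_bound ih (fixing_mono hA) (orb_card_lt hne hb')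
      (hF.orb_not_subset_of_sep hA (hsep b hb'))
  · rw [← Finset.card_univ, ← Finset.card_sdiff_of_subset (Finset.subset_univ A),
      Finset.card_eq_sum_card_image (orb (fixingSubgroup G (A : Set α))) (Finset.univ \ A)]
    exact Finset.sum_congr rfl fun O hO => by rw [hfib O hO]
  · rw [← Finset.card_sdiff_of_subset hA,
      Finset.card_eq_sum_card_fiberwise (t := 𝒪) (s := F \ A)
        (f := orb (fixingSubgroup G (A : Set α))) (fun b hb => Finset.mem_image_of_mem _
          (Finset.sdiff_subset_sdiff (Finset.subset_univ F) (Finset.Subset.refl A) hb))]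
    refine Finset.sum_congr rfl fun O hO => ?_
    congr 1
    have h := hfib O hO
    ext w
    have hw := Finset.ext_iff.1 h w
    simp only [Finset.mem_filter, Finset.mem_sdiff, Finset.mem_inter, Finset.mem_univ, true_and] at hw ⊢
    tauto

end Good

/-- The classes of points lying in the same translates of `F`. -/
def cls (G : Type u) [Group G] {α : Type v} [Fintype α] [DecidableEq α] [MulAction G α]
    (F : Finset α) (a : α) : Finset α :=
  Finset.univ.filter fun b => ∀ g : G, a ∈ g • F ↔ b ∈ g • F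

theorem mem_cls {F : Finset α} {a b : α} :
    b ∈ cls G F a ↔ ∀ g : G, (a ∈ g • F ↔ b ∈ g • F) := by simp [cls]

theorem cls_eq_of_mem {F : Finset α} {a b : α} (h : b ∈ cls G F a) : cls G F b = cls G F a := by
  ext x
  rw [mem_cls, mem_cls]
  exact forall_congr' fun g => by rw [mem_cls.1 h g]

theorem smul_cls (F : Finset α) (u : G) (a : α) : u • cls G F a = cls G F (u • a) := by
  ext x
  rw [← Finset.inv_smul_mem_iff, mem_cls, mem_cls]
  have key : ∀ (g : G) (y : α), y ∈ g • F ↔ u • y ∈ (u * g) • F := fun g y => by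
    rw [mul_smul, Finset.smul_mem_smul_finset_iff]
  constructor
  · intro h g
    have := h (u⁻¹ * g)
    rwa [key, key (u⁻¹ * g), mul_inv_cancel_left, smul_inv_smul] at this
  · intro h g
    have := h (u * g)
    rwa [key, key g (u⁻¹ • x), smul_inv_smul]

namespace Good

variable {F : Finset α} (hF : Good G F) [Finite G] [IsPretransitive G α]
include hF

theorem card_translates_ne {a b : α} (h : b ∉ cls G F a) : ∃ g : G, a ∈ g • F ∧ b ∉ g • F := by
  let _ : Fintype G := Fintype.ofFinite G
  by_contra hcon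
  push Not at hcon
  refine h (mem_cls.2 fun g => ⟨hcon g, fun hb => ?_⟩)
  set S := fun x : α => Finset.univ.filter fun g : G => x ∈ g • F with hS
  obtain ⟨u, hu⟩ := MulAction.exists_smul_eq G a b
  have hcard : (S a).card = (S b).card := by
    refine Finset.card_equiv (Equiv.mulLeft u) fun g => ?_
    simp [hS, mul_smul, ← hu]
  have : S a = S b := Finset.eq_of_subset_of_card_le (fun g hg => by
    simp only [hS, Finset.mem_filter, Finset.mem_univ, true_and] at hg ⊢
    exact hcon g hg) hcard.ge
  have hg : g ∈ S b := by simp [hS, hb]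
  rw [← this] at hg
  simpa [hS] using hg

theorem bound_of_nontrivial_cls (ih : Bound.{u, v} (Fintype.card α)) {a0 : α}
    (hnt : 1 < (cls G F a0).card) (hne : F ≠ Finset.univ) :
    2 * F.card + 1 ≤ Fintype.card α := by
  rcases F.eq_empty_or_nonempty with hFe | hFne
  · rw [hFe]
    simpa using Nat.succ_le_of_lt (Fintype.card_pos_iff.2 ⟨a0⟩ : 0 < Fintype.card α)
  set 𝔅 : Finset (Finset α) := Finset.univ.image (cls G F) with h𝔅
  have horb : ∀ C, C ∈ 𝔅 ↔ C ∈ MulAction.orbit G (cls G F a0) := by
    intro C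
    simp only [h𝔅, Finset.mem_image, Finset.mem_univ, true_and, MulAction.mem_orbit_iff]
    constructor
    · rintro ⟨a, rfl⟩
      obtain ⟨u, rfl⟩ := MulAction.exists_smul_eq G a0 a
      exact ⟨u, smul_cls F u a0⟩
    · rintro ⟨u, rfl⟩
      exact ⟨u • a0, (smul_cls F u a0).symm⟩
  let _ : Fintype (MulAction.orbit G (cls G F a0)) := Fintype.ofFinite _
  set Q := MulAction.orbit G (cls G F a0)
  set s := (cls G F a0).card
  have hcQ : Fintype.card Q = 𝔅.card := Fintype.card_of_subtype _ horb
  have hs : ∀ C ∈ 𝔅, C.card = s := by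
    intro C hC
    obtain ⟨u, rfl⟩ := MulAction.mem_orbit_iff.1 ((horb C).1 hC)
    exact Finset.card_smul_finset _ _
  have hn : Fintype.card α = 𝔅.card * s := by
    rw [← Finset.card_univ, Finset.card_eq_sum_card_image (cls G F) Finset.univ,
      Finset.sum_congr rfl (fun C hC => ?_), Finset.sum_const, smul_eq_mul]
    obtain ⟨a, -, rfl⟩ := Finset.mem_image.1 hC
    rw [← hs _ hC]
    congr 1
    ext x
    simp only [Finset.mem_filter, Finset.mem_univ, true_and]
    exact ⟨fun h => h ▸ mem_cls.2 (fun _ => Iff.rfl), cls_eq_of_mem⟩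
  set F' : Finset Q :=
    Finset.univ.filter fun C => ∀ k ∈ fixingSubgroup G (F : Set α), k • C = C with hF'
  have hval : ∀ (u : G) (C : Q), ((u • C : Q) : Finset α) = u • (C : Finset α) := fun _ _ => rfl
  have hchar : ∀ (g : G) (C : Q), C ∈ g • F' ↔
      ∀ k ∈ fixingSubgroup G ((g • F : Finset α) : Set α), k • C = C := by
    intro g C
    rw [← Finset.inv_smul_mem_iff]
    simp only [hF', Finset.mem_filter, Finset.mem_univ, true_and]
    constructor
    · intro h k hk
      have h1 := conj_mem_fixing (g := g⁻¹) hk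
      rw [inv_smul_smul, inv_inv] at h1
      have h2 := h _ h1
      rw [mul_smul, mul_smul, smul_inv_smul] at h2
      exact MulAction.injective g⁻¹ h2
    · intro h k hk
      have h1 := h _ (conj_mem_fixing (g := g) hk)
      rw [mul_smul, mul_smul] at h1
      exact (eq_inv_smul_iff).2 h1
  have hKsub : fixingSubgroup G (F : Set α) ≤ fixingSubgroup G (F' : Set Q) := by
    intro k hk
    exact mem_fixing.2 fun C hC => (Finset.mem_filter.1 hC).2 k hk
  have hgood : Good G F' := by
    constructor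
    · intro C hC
      simp only [hF', Finset.mem_filter, Finset.mem_univ, true_and, not_forall, exists_prop] at hC
      obtain ⟨k, hk, hkC⟩ := hC
      exact ⟨k, hKsub hk, hkC⟩
    · intro g
      obtain ⟨w, hw, hwF⟩ := hF.conj g
      refine ⟨w, sup_le (hKsub.trans le_sup_left) ?_ hw, ?_⟩
      · intro k hk
        exact Subgroup.mem_sup_right (mem_fixing.2 fun C hC => (hchar g C).1 hC k hk)
      · ext C
        rw [hchar, hchar, hwF]
  have hproper : F' ≠ Finset.univ := by
    intro huniv
    have hall : ∀ k ∈ fixingSubgroup G (F : Set α), ∀ C : Q, k • C = C := by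
      intro k hk C
      have := Finset.eq_univ_iff_forall.1 huniv C
      exact (Finset.mem_filter.1 this).2 k hk
    obtain ⟨c, hc⟩ : ∃ c, c ∉ F := by
      by_contra h; push Not at h; exact hne (Finset.eq_univ_iff_forall.2 h)
    obtain ⟨a, ha⟩ := hFne
    obtain ⟨g, hg⟩ := MulAction.exists_smul_eq G a c
    obtain ⟨w, hw, hwF⟩ := hF.conj g
    set L : Subgroup G := MulAction.stabilizer G (⟨cls G F c, (horb _).1 (Finset.mem_image_of_mem _ (Finset.mem_univ c))⟩ : Q) with hL
    have hwL : w ∈ L := by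
      suffices h : fixingSubgroup G (F : Set α) ⊔
          fixingSubgroup G ((g • F : Finset α) : Set α) ≤ L from h hw
      refine sup_le ?_ ?_
      · exact fun k hk => mem_stabilizer_iff.2 (hall k hk _)
      · intro k hk
        have h1 := conj_mem_fixing (g := g⁻¹) hk
        rw [inv_smul_smul, inv_inv] at h1
        refine mem_stabilizer_iff.2 ?_
        have h2 := hall _ h1 (g⁻¹ • ⟨cls G F c, (horb _).1 (Finset.mem_image_of_mem _ (Finset.mem_univ c))⟩)
        rw [mul_smul, mul_smul, smul_inv_smul] at h2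
        exact MulAction.injective g⁻¹ h2
    have h3 : w • cls G F c = cls G F c := congrArg Subtype.val (mem_stabilizer_iff.1 hwL)
    have h4 : c ∈ w • F := hwF ▸ (hg ▸ Finset.smul_mem_smul_finset ha)
    have h5 : w⁻¹ • c ∈ cls G F c := by
      rw [Finset.inv_smul_mem_iff, h3]
      exact mem_cls.2 fun _ => Iff.rfl
    have h6 : w⁻¹ • c ∈ F := Finset.inv_smul_mem_iff.2 h4
    have h7 := (mem_cls.1 h5 1).2 (by simpa using h6)
    exact hc (by simpa using h7)
  have hlt : Fintype.card Q < Fintype.card α := by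
    rw [hcQ, hn]
    have : 0 < 𝔅.card := Finset.card_pos.2 ⟨_, Finset.mem_image_of_mem _ (Finset.mem_univ a0)⟩
    nlinarith
  have hb := ih G Q F' hlt hgood hproper
  have hFle : F.card ≤ F'.card * s := by
    have hsub : F ⊆ F'.biUnion fun C => (C : Finset α) := by
      intro a ha
      refine Finset.mem_biUnion.2 ⟨⟨cls G F a, (horb _).1 (Finset.mem_image_of_mem _ (Finset.mem_univ a))⟩,
        ?_, mem_cls.2 fun _ => Iff.rfl⟩
      simp only [hF', Finset.mem_filter, Finset.mem_univ, true_and]
      intro k hk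
      refine Subtype.ext ?_
      rw [hval]
      show k • cls G F a = cls G F a
      rw [smul_cls, mem_fixing.1 hk a ha]
    refine (Finset.card_le_card hsub).trans (Finset.card_biUnion_le.trans ?_)
    rw [Finset.sum_congr rfl (fun (C : Q) _ => hs C ((horb _).2 C.2)), Finset.sum_const, smul_eq_mul]
  rw [hcQ] at hb
  rw [hn]
  nlinarith

end Good

end

end Cfsg.Agent.PronHalf
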