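import Cfsg.Agent.Lib.PronormalHalf.Defs

/-!
The second moment inequality for a family of regular relations, most of which are constant on
a given set of points, and the arithmetic showing that it is violated.
-/

set_option autoImplicit false
set_option linter.unusedSectionVars false

namespace Cfsg.Agent.PronHalf

noncomputable section

attribute [local instance] Classical.propDecidable

variable {α β : Type*} [DecidableEq α] [DecidableEq β]

theorem sum_pairs_bound {Y : Finset α} (T : α → α → ℤ) (a q : ℤ) (hd : ∀ x ∈ Y, T x x = a)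
    (ho : ∀ x ∈ Y, ∀ x' ∈ Y, x ≠ x' → T x x' ≤ q) :
    ∑ x ∈ Y, ∑ x' ∈ Y, T x x' ≤ (Y.card : ℤ) * a + (Y.card : ℤ) * ((Y.card : ℤ) - 1) * q := by
  have h : ∀ x ∈ Y, ∑ x' ∈ Y, T x x' ≤ a + ((Y.card : ℤ) - 1) * q := by
    intro x hx
    rw [← Finset.add_sum_erase _ _ hx, hd x hx]
    refine Int.add_le_add_left ?_ _
    refine (Finset.sum_le_card_nsmul _ _ q fun x' hx' => ho x hx x' (Finset.mem_erase.1 hx').2
      (Finset.mem_erase.1 hx').1.symm).trans ?_
    rw [Finset.card_erase_of_mem hx, nsmul_eq_mul, Nat.cast_sub (Finset.card_pos.2 ⟨x, hx⟩)]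
    simp
  refine (Finset.sum_le_card_nsmul _ _ _ h).trans ?_
  rw [nsmul_eq_mul]
  exact le_of_eq (by ring)

/-- The second moment inequality. -/
theorem moment_ineq {O B : Finset β} {X I Y : Finset α} (D : β → α → α → Prop) {P e : ℕ}
    (hX : X.card = e + 1) (he : 1 ≤ e) (hI : I ⊆ X) (hY : Y ⊆ X) (hIY : Disjoint I Y) (hY0 : Y.Nonempty)
    (hI0 : I.Nonempty)
    (hrow : ∀ c ∈ O, ∀ z ∈ X, ((X.erase z).filter fun x => D c z x).card = P)
    (hcol : ∀ c ∈ O, ∀ x ∈ X, ((X.erase x).filter fun z => D c z x).card = P)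
    (hpi : ∀ z ∈ X, ∀ x ∈ X, z ≠ x → ∀ z' ∈ X, ∀ x' ∈ X, z' ≠ x' →
      (O.filter fun c => D c z x).card = (O.filter fun c => D c z' x').card)
    (hQ : ∀ x ∈ X, ∀ y ∈ X, x ≠ y → ∀ x' ∈ X, ∀ y' ∈ X, x' ≠ y' →
      ∑ c ∈ O, (((X.erase x).erase y).filter fun z => D c z x ∧ D c z y).card =
        ∑ c ∈ O, (((X.erase x').erase y').filter fun z => D c z x' ∧ D c z y').card)
    (hgood : ∀ c ∈ O, c ∉ B → ∀ z ∈ I, ∀ x ∈ Y, ∀ x' ∈ Y, D c z x → D c z x') :
    ∃ S : β → ℤ, (∀ c, 0 ≤ S c) ∧ (∀ c ∈ O, S c ≤ (Y.card : ℤ) * P) ∧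
      (I.card : ℤ) * Y.card * ((Y.card : ℤ) - 1) * O.card * P * ((I.card : ℤ) + 1 - P) ≤
        (e : ℤ) * ∑ c ∈ O.filter (· ∈ B), S c * ((Y.card : ℤ) * I.card - S c) := by
  obtain ⟨z0, hz0⟩ : X.Nonempty := Finset.card_pos.1 (by omega)
  obtain ⟨x0, hx0⟩ : (X.erase z0).Nonempty :=
    Finset.card_pos.1 (by rw [Finset.card_erase_of_mem hz0]; omega)
  obtain ⟨hx0z, hx0X⟩ := Finset.mem_erase.1 hx0
  set pp0 := (O.filter fun c => D c z0 x0).card with hpp0
  have hPp : (e : ℤ) * pp0 = (O.card : ℤ) * P := by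
    have h1 : ∑ z ∈ X, ∑ x ∈ X.erase z, (O.filter fun c => D c z x).card =
        ∑ c ∈ O, ∑ z ∈ X, ((X.erase z).filter fun x => D c z x).card := by
      simp only [Finset.card_filter]
      rw [Finset.sum_comm (s := O)]
      exact Finset.sum_congr rfl fun z _ => Finset.sum_comm
    rw [Finset.sum_congr rfl (fun z hz => Finset.sum_const_nat (m := pp0) (fun x hx =>
        hpi z hz x (Finset.mem_erase.1 hx).2 (Finset.mem_erase.1 hx).1.symm z0 hz0 x0 hx0X hx0z.symm)),
      Finset.sum_congr rfl (fun c hc => Finset.sum_const_nat (m := P) (fun z hz => hrow c hc z hz)),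
      Finset.sum_const_nat (m := X.card * P) (fun _ _ => rfl),
      Finset.sum_const_nat (m := e * pp0) (fun z hz => by
        rw [Finset.card_erase_of_mem hz, hX, Nat.add_sub_cancel])] at h1
    rw [hX] at h1
    have h2 : e * pp0 = O.card * P := by
      refine Nat.eq_of_mul_eq_mul_left (show 0 < e + 1 by omega) ?_
      rw [h1]; ring
    exact_mod_cast h2
  set Q₀ := ∑ c ∈ O, (((X.erase z0).erase x0).filter fun z => D c z z0 ∧ D c z x0).card with hQ₀
  have hQe : (e : ℤ) * Q₀ = (O.card : ℤ) * (P * (P - 1)) := by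
    have h1 : ∑ x ∈ X, ∑ y ∈ X.erase x,
        ∑ c ∈ O, (((X.erase x).erase y).filter fun z => D c z x ∧ D c z y).card =
        ∑ c ∈ O, ∑ z ∈ X, (((X.erase z).filter fun x => D c z x).offDiag).card := by
      rw [Finset.sum_congr rfl (fun x _ => Finset.sum_comm)]
      rw [Finset.sum_comm]
      refine Finset.sum_congr rfl fun c _ => ?_
      have e1 : ∑ x ∈ X, ∑ y ∈ X.erase x,
          (((X.erase x).erase y).filter fun z => D c z x ∧ D c z y).card =
          ∑ x ∈ X, ∑ y ∈ X, ∑ z ∈ X,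
            if z ≠ x ∧ z ≠ y ∧ y ≠ x ∧ D c z x ∧ D c z y then 1 else 0 := by
        refine Finset.sum_congr rfl fun x _ => ?_
        simp only [Finset.card_filter, Finset.sum_erase_eq_sub, Finset.erase_eq, ← Finset.filter_ne']
        simp only [Finset.sdiff_singleton_eq_erase, ← Finset.filter_ne', Finset.sum_filter]
        refine Finset.sum_congr rfl fun y _ => ?_
        by_cases hyx : y = x
        · simp [hyx]
        · rw [if_pos hyx]
          refine Finset.sum_congr rfl fun z _ => ?_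
          by_cases hzx : z = x <;> by_cases hzy : z = y <;> simp [hzx, hzy, hyx]
      rw [e1]
      have e2 : ∀ z ∈ X, (((X.erase z).filter fun x => D c z x).offDiag).card =
          ∑ x ∈ X, ∑ y ∈ X, if z ≠ x ∧ z ≠ y ∧ y ≠ x ∧ D c z x ∧ D c z y then 1 else 0 := by
        intro z _
        rw [← Finset.sum_product', ← Finset.card_filter]
        congr 1
        ext p
        simp only [Finset.mem_offDiag, Finset.mem_filter, Finset.mem_erase, Finset.mem_product]
        constructor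
        · rintro ⟨⟨⟨a1, a2⟩, a3⟩, ⟨⟨b1, b2⟩, b3⟩, hne⟩
          exact ⟨⟨a2, b2⟩, Ne.symm a1, Ne.symm b1, Ne.symm hne, a3, b3⟩
        · rintro ⟨⟨a2, b2⟩, a1, b1, hne, a3, b3⟩
          exact ⟨⟨⟨Ne.symm a1, a2⟩, a3⟩, ⟨⟨Ne.symm b1, b2⟩, b3⟩, Ne.symm hne⟩
      rw [Finset.sum_congr rfl e2]
      conv_rhs => rw [Finset.sum_comm]
      exact Finset.sum_congr rfl fun x _ => Finset.sum_comm
    rw [Finset.sum_congr rfl (fun x hx => Finset.sum_const_nat (m := Q₀) (fun y hy =>
        hQ x hx y (Finset.mem_erase.1 hy).2 (Finset.mem_erase.1 hy).1.symm z0 hz0 x0 hx0X hx0z.symm)),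
      Finset.sum_congr rfl (fun c hc => Finset.sum_const_nat (m := P * P - P) (fun z hz => by
        rw [Finset.offDiag_card, hrow c hc z hz])),
      Finset.sum_const_nat (m := X.card * (P * P - P)) (fun _ _ => rfl),
      Finset.sum_const_nat (m := e * Q₀) (fun x hx => by
        rw [Finset.card_erase_of_mem hx, hX, Nat.add_sub_cancel]), hX] at h1
    have h2 : e * Q₀ = O.card * (P * P - P) := by
      refine Nat.eq_of_mul_eq_mul_left (show 0 < e + 1 by omega) ?_
      rw [h1]; ring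
    have h3 : ((e * Q₀ : ℕ) : ℤ) = ((O.card * (P * P - P) : ℕ) : ℤ) := congrArg _ h2
    rw [Nat.cast_mul, Nat.cast_mul, Nat.cast_sub (Nat.le_mul_self P), Nat.cast_mul] at h3
    rw [h3]; ring
  set s : β → α → ℤ := fun c z => ∑ x ∈ Y, if D c z x then 1 else 0 with hs
  set S : β → ℤ := fun c => ∑ z ∈ I, s c z with hS
  have hnn : ∀ c z, 0 ≤ s c z := fun c z => Finset.sum_nonneg fun x _ => by split <;> norm_num
  refine ⟨S, fun c => Finset.sum_nonneg fun z _ => hnn c z, fun c hc => ?_, ?_⟩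
  · simp only [hS, hs]
    rw [Finset.sum_comm]
    refine (Finset.sum_le_card_nsmul _ _ (P : ℤ) fun x hx => ?_).trans (le_of_eq (nsmul_eq_mul _ _))
    rw [Finset.sum_boole, ← hcol c hc x (hY hx)]
    exact_mod_cast Finset.card_le_card fun z hz => by
      obtain ⟨hzI, hzD⟩ := Finset.mem_filter.1 hz
      exact Finset.mem_filter.2 ⟨Finset.mem_erase.2
        ⟨fun e' => Finset.disjoint_left.1 hIY hzI (e' ▸ hx), hI hzI⟩, hzD⟩
  have hIz : ∀ z ∈ I, ∀ x ∈ Y, z ≠ x := fun z hz x hx e' =>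
    Finset.disjoint_left.1 hIY hz (e' ▸ hx)
  have hsum1 : ∑ c ∈ O, S c = (Y.card : ℤ) * I.card * pp0 := by
    simp only [hS, hs]
    rw [Finset.sum_comm]
    rw [Finset.sum_congr rfl (fun z _ => Finset.sum_comm)]
    rw [Finset.sum_congr rfl (fun z hz => Finset.sum_congr rfl (fun x hx => by
      rw [Finset.sum_boole, hpi z (hI hz) x (hY hx) (hIz z hz x hx) z0 hz0 x0 hx0X hx0z.symm]))]
    simp only [Finset.sum_const, nsmul_eq_mul]
    rw [← hpp0]; ring
  have hsum2 : ∑ c ∈ O, ∑ z ∈ I, s c z ^ 2 ≤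
      (Y.card : ℤ) * ((I.card : ℤ) * pp0) + (Y.card : ℤ) * ((Y.card : ℤ) - 1) * Q₀ := by
    have e1 : ∑ c ∈ O, ∑ z ∈ I, s c z ^ 2 =
        ∑ x ∈ Y, ∑ x' ∈ Y, ∑ z ∈ I, ∑ c ∈ O, if D c z x ∧ D c z x' then (1 : ℤ) else 0 := by
      simp only [hs, sq, Finset.sum_mul_sum]
      rw [Finset.sum_comm]
      rw [Finset.sum_congr rfl (fun z _ => Finset.sum_comm)]
      rw [Finset.sum_comm]
      refine Finset.sum_congr rfl fun x _ => ?_
      rw [Finset.sum_congr rfl (fun z _ => Finset.sum_comm)]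
      rw [Finset.sum_comm]
      refine Finset.sum_congr rfl fun x' _ => Finset.sum_congr rfl fun z _ =>
        Finset.sum_congr rfl fun c _ => ?_
      by_cases h1 : D c z x <;> by_cases h2 : D c z x' <;> simp [h1, h2]
    rw [e1]
    refine sum_pairs_bound _ _ _ (fun x hx => ?_) (fun x hx x' hx' hne => ?_)
    · simp only [and_self, Finset.sum_boole]
      rw [Finset.sum_congr rfl (fun z hz => by
        rw [hpi z (hI hz) x (hY hx) (hIz z hz x hx) z0 hz0 x0 hx0X hx0z.symm])]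
      simp [← hpp0]
    · rw [Finset.sum_comm]
      simp only [Finset.sum_boole]
      rw [hQ₀, hQ z0 hz0 x0 hx0X hx0z.symm x (hY hx) x' (hY hx') hne, Nat.cast_sum]
      refine Finset.sum_le_sum fun c _ => ?_
      exact_mod_cast Finset.card_le_card fun z hz => by
        obtain ⟨hzI, hzD⟩ := Finset.mem_filter.1 hz
        exact Finset.mem_filter.2 ⟨Finset.mem_erase.2 ⟨hIz z hzI x' hx',
          Finset.mem_erase.2 ⟨hIz z hzI x hx, hI hzI⟩⟩, hzD⟩
  have hpt : ∀ c ∈ O, (I.card : ℤ) * Y.card * S c -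
      (if c ∈ B then S c * ((Y.card : ℤ) * I.card - S c) else 0) ≤
      (I.card : ℤ) * ∑ z ∈ I, s c z ^ 2 := by
    intro c hc
    by_cases hcB : c ∈ B
    · rw [if_pos hcB]
      have h := sq_sum_le_card_mul_sum_sq (s := I) (f := s c)
      have : S c = ∑ z ∈ I, s c z := rfl
      rw [← this] at h
      nlinarith
    · rw [if_neg hcB, sub_zero, hS]
      rw [Finset.mul_sum, Finset.mul_sum]
      refine Finset.sum_le_sum fun z hz => le_of_eq ?_
      by_cases hz' : ∃ x ∈ Y, D c z x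
      · obtain ⟨x, hx, hxD⟩ := hz'
        have : s c z = Y.card := by
          simp only [hs]
          rw [Finset.sum_congr rfl (fun x' hx' => if_pos (hgood c hc hcB z hz x hx x' hx' hxD))]
          simp
        rw [this]; ring
      · push Not at hz'
        have : s c z = 0 := Finset.sum_eq_zero fun x hx => if_neg (hz' x hx)
        rw [this]; ring
  have hall := Finset.sum_le_sum hpt
  rw [Finset.sum_sub_distrib, ← Finset.mul_sum, hsum1, ← Finset.sum_filter, ← Finset.mul_sum] at hall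
  have hIe : (0 : ℤ) ≤ (e : ℤ) * I.card := by positivity
  have h1 := mul_le_mul_of_nonneg_left hsum2 hIe
  have h2 := mul_le_mul_of_nonneg_left hall (Int.natCast_nonneg e)
  have h3 : (e : ℤ) * I.card * ((Y.card : ℤ) * ((I.card : ℤ) * pp0) +
      (Y.card : ℤ) * ((Y.card : ℤ) - 1) * Q₀) =
      (I.card : ℤ) * Y.card * ((I.card : ℤ) * ((e : ℤ) * pp0) + ((Y.card : ℤ) - 1) * ((e : ℤ) * Q₀)) := by
    ring
  rw [h3, hPp, hQe] at h1
  have h4 : (e : ℤ) * ((I.card : ℤ) * Y.card * ((Y.card : ℤ) * I.card * pp0)) =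
      (I.card : ℤ) * Y.card * ((Y.card : ℤ) * I.card * ((e : ℤ) * pp0)) := by ring
  rw [mul_sub, h4, hPp] at h2
  nlinarith

/-- The two inequalities of `moment_ineq` after bounding the contributions of `B`. -/
theorem moment_final {W b ι y P e : ℤ} {γ : Type*} (T : Finset γ) (S : γ → ℤ)
    (hS0 : ∀ c ∈ T, 0 ≤ S c) (hS1 : ∀ c ∈ T, S c ≤ y * P) (hb : (T.card : ℤ) = b)
    (hy : 1 ≤ y) (he : 0 ≤ e) (hP : 1 ≤ P) (hι : 1 ≤ ι)
    (h : ι * y * (y - 1) * W * P * (ι + 1 - P) ≤ e * ∑ c ∈ T, S c * (y * ι - S c)) :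
    (2 * P ≤ ι → (y - 1) * ι * W * (ι + 1 - P) ≤ e * b * y * (ι - P)) ∧
      4 * (y - 1) * W * P * (ι + 1 - P) ≤ e * b * y * ι := by
  constructor
  · intro h2
    have h3 : ∑ c ∈ T, S c * (y * ι - S c) ≤ T.card • (y * P * (y * ι - y * P)) := by
      refine Finset.sum_le_card_nsmul _ _ _ fun c hc => ?_
      have : 0 ≤ (y * P - S c) * (y * ι - y * P - S c) := by
        refine mul_nonneg (by linarith [hS1 c hc]) ?_
        have := mul_le_mul_of_nonneg_left h2 (show (0 : ℤ) ≤ y by linarith)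
        nlinarith [hS1 c hc]
      nlinarith
    rw [nsmul_eq_mul, hb] at h3
    have h4 := h.trans (mul_le_mul_of_nonneg_left h3 he)
    have h5 : (0 : ℤ) < y * P := by nlinarith
    refine le_of_mul_le_mul_left ?_ h5
    nlinarith
  · have h3 : ∑ c ∈ T, 4 * (S c * (y * ι - S c)) ≤ T.card • ((y * ι) ^ 2) := by
      refine Finset.sum_le_card_nsmul _ _ _ fun c _ => ?_
      nlinarith [sq_nonneg (y * ι - 2 * S c)]
    rw [nsmul_eq_mul, hb, ← Finset.mul_sum] at h3
    have h4 := mul_le_mul_of_nonneg_left h3 he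
    have h5 : (0 : ℤ) < ι * y := by nlinarith
    refine le_of_mul_le_mul_left ?_ h5
    nlinarith

theorem arith_small {f i t x y : ℤ} (hy : 3 ≤ y) (ht : 3 ≤ t) (hty : t + 1 ≤ 2 * y)
    (hx : 4 * y ≤ x) (hxi : x = 2 * i - f) (hf : 3 * x < f) :
    (f - t + 1) * y * x < (y - 1) * (i - t + 2) * f := by
  have h1 : 3 * (f - t + 1) * x < 2 * (i - t + 2) * f := by
    nlinarith [mul_nonneg (show (0 : ℤ) ≤ x - 2 * t - 2 by linarith)
      (show (0 : ℤ) ≤ 2 * f - 3 * x by linarith),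
      mul_pos (show (0 : ℤ) < f by linarith) (show (0 : ℤ) < f - 3 * x by linarith)]
  have hx0 : 0 ≤ x := by linarith
  have hpos : 0 ≤ (f - t + 1) * x := mul_nonneg (by linarith) hx0
  nlinarith [mul_nonneg hpos (show (0 : ℤ) ≤ y - 3 by linarith)]

theorem arith_large {f i t x y : ℤ} (hy : 3 ≤ y) (hty : t + 1 ≤ 2 * y)
    (hx : 4 * y ≤ x) (hxi : x = 2 * i - f) (hf : 3 * x < f) :
    y * (i - t + 2) * x < (y - 1) * f * (x - t + 5) := by
  have h0 : 0 ≤ (y - 1) * f - x * y := by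
    nlinarith [mul_nonneg (show (0 : ℤ) ≤ y - 1 by linarith) (show (0 : ℤ) ≤ f - 3 * x - 1 by linarith),
      mul_nonneg (show (0 : ℤ) ≤ x by linarith) (show (0 : ℤ) ≤ 2 * y - 3 by linarith)]
  have h1 : y * (i - (2 * y - 1) + 2) * x < (y - 1) * f * (x - (2 * y - 1) + 5) := by
    obtain ⟨a, ha, rfl⟩ : ∃ a, 0 ≤ a ∧ x = 4 * y + a := ⟨x - 4 * y, by linarith, by ring⟩
    nlinarith [mul_nonneg (show (0 : ℤ) ≤ f - 3 * (4 * y + a) by linarith)
      (show (0 : ℤ) ≤ 8 * y - 12 + a * (y - 2) by nlinarith),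
      mul_nonneg (show (0 : ℤ) ≤ 4 * y + a by linarith)
        (mul_nonneg ha (show (0 : ℤ) ≤ 2 * y - 6 by linarith)),
      mul_pos (show (0 : ℤ) < 4 * y + a by linarith) (show (0 : ℤ) < 18 * y - 36 by linarith)]
  nlinarith [mul_nonneg h0 (show (0 : ℤ) ≤ 2 * y - 1 - t by linarith)]

end

end Cfsg.Agent.PronHalf
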