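import Mathlib
import Cfsg.Agent.EqLemmas

/-!
Basic language for the bound on the number of fixed points of a pronormal subgroup.

Everything is phrased through the fixed point set `F` of the subgroup: the subgroup may be
replaced by the pointwise stabilizer of `F`, and its conjugates by the pointwise stabilizers
of the translates of `F`.
-/

set_option autoImplicit false
set_option linter.unusedSectionVars false

open scoped Pointwise
open MulAction

namespace Cfsg.Agent.PronHalf

universe u v

noncomputable section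

attribute [local instance] Classical.propDecidable

variable {G : Type u} [Group G] {α : Type v} [Fintype α] [MulAction G α]

/-- The orbit of a point under a subgroup, as a finset. -/
def orb (H : Subgroup G) (b : α) : Finset α :=
  Finset.univ.filter fun w => ∃ h ∈ H, h • b = w

theorem mem_orb {H : Subgroup G} {b w : α} : w ∈ orb H b ↔ ∃ h ∈ H, h • b = w := by
  simp [orb]

theorem self_mem_orb (H : Subgroup G) (b : α) : b ∈ orb H b :=
  mem_orb.2 ⟨1, H.one_mem, one_smul _ _⟩

theorem orb_eq_of_mem {H : Subgroup G} {b w : α} (h : w ∈ orb H b) : orb H w = orb H b := by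
  obtain ⟨g, hg, rfl⟩ := mem_orb.1 h
  ext x
  constructor
  · intro hx
    obtain ⟨k, hk, rfl⟩ := mem_orb.1 hx
    exact mem_orb.2 ⟨k * g, H.mul_mem hk hg, mul_smul _ _ _⟩
  · intro hx
    obtain ⟨k, hk, rfl⟩ := mem_orb.1 hx
    exact mem_orb.2 ⟨k * g⁻¹, H.mul_mem hk (H.inv_mem hg), by rw [mul_smul, inv_smul_smul]⟩

theorem smul_mem_orb {H : Subgroup G} {b w : α} {h : G} (hh : h ∈ H) (hw : w ∈ orb H b) :
    h • w ∈ orb H b := by
  obtain ⟨g, hg, rfl⟩ := mem_orb.1 hw
  exact mem_orb.2 ⟨h * g, H.mul_mem hh hg, mul_smul _ _ _⟩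

variable [DecidableEq α]

/-- The axioms satisfied by the fixed point set of a pronormal subgroup. -/
structure Good (G : Type u) [Group G] {α : Type v} [Fintype α] [DecidableEq α] [MulAction G α]
    (F : Finset α) : Prop where
  moved : ∀ a, a ∉ F → ∃ k ∈ fixingSubgroup G (F : Set α), k • a ≠ a
  conj : ∀ g : G, ∃ w ∈ fixingSubgroup G (F : Set α) ⊔ fixingSubgroup G ((g • F : Finset α) : Set α),
    w • F = g • F

/-- The bound for all degrees below `n`. -/
def Bound (n : ℕ) : Prop :=
  ∀ (G : Type u) [Group G] [Finite G] (α : Type v) [Fintype α] [DecidableEq α] [MulAction G α]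
    [IsPretransitive G α] (F : Finset α), Fintype.card α < n → Good G F → F ≠ Finset.univ →
    2 * F.card + 1 ≤ Fintype.card α

omit [Fintype α] in
theorem mem_fixing {E : Finset α} {g : G} :
    g ∈ fixingSubgroup G (E : Set α) ↔ ∀ a ∈ E, g • a = a := by
  simp [mem_fixingSubgroup_iff]

omit [Fintype α] in
theorem smul_finset_eq_of_fix {E : Finset α} {g : G} (h : g ∈ fixingSubgroup G (E : Set α)) :
    g • E = E := by
  have h' := mem_fixing.1 h
  refine Finset.eq_of_subset_of_card_le ?_ (le_of_eq (Finset.card_smul_finset g E).symm)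
  intro a ha
  obtain ⟨b, hb, rfl⟩ := Finset.mem_smul_finset.1 ha
  rw [h' b hb]; exact hb

omit [Fintype α] in
theorem fixing_le_stabilizer (E : Finset α) :
    fixingSubgroup G (E : Set α) ≤ stabilizer G E := fun _ hg =>
  mem_stabilizer_iff.2 (smul_finset_eq_of_fix hg)

omit [Fintype α] in
theorem conj_mem_fixing {E : Finset α} {g k : G} (h : k ∈ fixingSubgroup G (E : Set α)) :
    g * k * g⁻¹ ∈ fixingSubgroup G ((g • E : Finset α) : Set α) := by
  refine mem_fixing.2 fun a ha => ?_
  obtain ⟨b, hb, rfl⟩ := Finset.mem_smul_finset.1 ha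
  rw [mul_smul, mul_smul, inv_smul_smul, mem_fixing.1 h b hb]

omit [Fintype α] in
theorem fixing_mono {E E' : Finset α} (h : E ⊆ E') :
    fixingSubgroup G (E' : Set α) ≤ fixingSubgroup G (E : Set α) := fun _ hg =>
  mem_fixing.2 fun a ha => mem_fixing.1 hg a (h ha)

namespace Good

variable {F : Finset α} (hF : Good G F)
include hF

/-- A translate containing a part `E` of `F` is obtained by an element fixing `E`. -/
theorem ext {g : G} {E : Finset α} (h1 : E ⊆ F) (h2 : E ⊆ g • F) :
    ∃ w ∈ fixingSubgroup G (E : Set α), w • F = g • F := by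
  obtain ⟨w, hw, hwF⟩ := hF.conj g
  exact ⟨w, sup_le (fixing_mono h1) (fixing_mono h2) hw, hwF⟩

omit hF in
/-- An element of the stabilizer of `F` maps orbits of the pointwise stabilizer to such orbits. -/
theorem smul_orb {u : G} (hu : u • F = F) (c : α) :
    u • orb (fixingSubgroup G (F : Set α)) c = orb (fixingSubgroup G (F : Set α)) (u • c) := by
  ext w
  rw [Finset.mem_smul_finset, mem_orb]
  constructor
  · rintro ⟨v, hv, rfl⟩
    obtain ⟨k, hk, rfl⟩ := mem_orb.1 hv
    refine ⟨u * k * u⁻¹, ?_, by rw [mul_smul, mul_smul, inv_smul_smul]⟩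
    have := conj_mem_fixing (g := u) hk
    rwa [hu] at this
  · rintro ⟨k, hk, rfl⟩
    refine ⟨u⁻¹ • k • u • c, mem_orb.2 ⟨u⁻¹ * k * u, ?_, by simp [mul_smul]⟩, smul_inv_smul _ _⟩
    have hu' : u⁻¹ • F = F := inv_smul_eq_iff.2 hu.symm
    have := conj_mem_fixing (g := u⁻¹) hk
    rw [hu', inv_inv] at this
    exact this

omit hF in
theorem orb_disjoint {c : α} (hc : c ∉ F) {w : α}
    (hw : w ∈ orb (fixingSubgroup G (F : Set α)) c) : w ∉ F := by
  intro hwF
  obtain ⟨k, hk, rfl⟩ := mem_orb.1 hw
  have h1 : k⁻¹ • (k • c) = k • c := mem_fixing.1 (Subgroup.inv_mem _ hk) _ hwF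
  rw [inv_smul_smul] at h1
  exact hc (h1 ▸ hwF)

/-- No translate of `F` contains an orbit of the pointwise stabilizer of `F` outside `F`. -/
theorem orb_not_subset {c : α} (hc : c ∉ F) (g : G) :
    ¬ orb (fixingSubgroup G (F : Set α)) c ⊆ g • F := by
  intro hsub
  set R := orb (fixingSubgroup G (F : Set α)) c with hR
  obtain ⟨w, hw, hwF⟩ := hF.conj g
  have h1 : fixingSubgroup G (F : Set α) ≤ stabilizer G R := by
    intro k hk
    refine mem_stabilizer_iff.2 (Finset.eq_of_subset_of_card_le ?_
      (le_of_eq (Finset.card_smul_finset k R).symm))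
    intro a ha
    obtain ⟨b, hb, rfl⟩ := Finset.mem_smul_finset.1 ha
    exact smul_mem_orb hk hb
  have h2 : fixingSubgroup G ((g • F : Finset α) : Set α) ≤ stabilizer G R :=
    (fixing_mono hsub).trans (fixing_le_stabilizer R)
  have h3 : w • R = R := mem_stabilizer_iff.1 (sup_le h1 h2 hw)
  have h4 : w • R ⊆ w • F := by rw [h3, hwF]; exact hsub
  exact hc ((Finset.smul_finset_subset_smul_finset_iff.1 h4) (self_mem_orb _ _))

theorem one_lt_orb {c : α} (hc : c ∉ F) : 1 < (orb (fixingSubgroup G (F : Set α)) c).card := by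
  obtain ⟨k, hk, hkc⟩ := hF.moved c hc
  exact Finset.one_lt_card.2 ⟨_, mem_orb.2 ⟨k, hk, rfl⟩, c, self_mem_orb _ _, hkc⟩

variable [Finite G]

/-- The bound applied to an orbit of an overgroup of the pointwise stabilizer of `F`. -/
theorem orbit_bound (ih : Bound.{u, v} (Fintype.card α)) {H : Subgroup G}
    (hH : fixingSubgroup G (F : Set α) ≤ H) {b : α} (hlt : (orb H b).card < Fintype.card α)
    (hmove : ¬ orb H b ⊆ F) :
    2 * (F ∩ orb H b).card + 1 ≤ (orb H b).card := by
  have hmem : ∀ x : α, x ∈ orb H b ↔ x ∈ MulAction.orbit H b := by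
    intro x
    rw [mem_orb, MulAction.mem_orbit_iff]
    constructor
    · rintro ⟨h, hh, rfl⟩; exact ⟨⟨h, hh⟩, rfl⟩
    · rintro ⟨⟨h, hh⟩, rfl⟩; exact ⟨h, hh, rfl⟩
  let _ : Fintype (MulAction.orbit H b) := Fintype.ofFinite _
  set F' : Finset (MulAction.orbit H b) := Finset.univ.filter fun x => (x : α) ∈ F with hF'
  have hsm : ∀ (g : H) (x : MulAction.orbit H b), ((g • x : MulAction.orbit H b) : α) = (g : G) • (x : α) :=
    fun g x => rfl
  have hmemF' : ∀ (g : H) (x : MulAction.orbit H b), x ∈ g • F' ↔ (x : α) ∈ (g : G) • F := by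
    intro g x
    rw [← Finset.inv_smul_mem_iff, ← Finset.inv_smul_mem_iff]
    simp [hF', hsm]
  have hfix : ∀ (g : H) (k : G) (hk : k ∈ fixingSubgroup G (((g : G) • F : Finset α) : Set α))
      (hkH : k ∈ H), (⟨k, hkH⟩ : H) ∈ fixingSubgroup H ((g • F' : Finset _) : Set (MulAction.orbit H b)) := by
    intro g k hk hkH
    refine mem_fixing.2 fun x hx => ?_
    exact Subtype.ext (mem_fixing.1 hk _ ((hmemF' g x).1 hx))
  have hgood : Good H F' := by
    constructor
    · intro x hx
      have hx' : (x : α) ∉ F := by simpa [hF'] using hx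
      obtain ⟨k, hk, hkx⟩ := hF.moved _ hx'
      refine ⟨⟨k, hH hk⟩, ?_, fun h => hkx (congrArg Subtype.val h)⟩
      have := hfix 1 k (by simpa using hk) (hH hk)
      simpa using this
    · intro g
      obtain ⟨w, hw, hwF⟩ := hF.conj (g : G)
      have hle : fixingSubgroup G (((g : G) • F : Finset α) : Set α) ≤ H := by
        intro k hk
        have h1 := conj_mem_fixing (g := (g : G)⁻¹) hk
        rw [inv_smul_smul, inv_inv] at h1
        have h2 := hH h1
        have := H.mul_mem (H.mul_mem g.2 h2) (H.inv_mem g.2)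
        simpa [mul_assoc] using this
      set P := (fixingSubgroup H (F' : Set (MulAction.orbit H b)) ⊔
        fixingSubgroup H ((g • F' : Finset _) : Set (MulAction.orbit H b))).map H.subtype with hP
      have hwP : w ∈ P := by
        suffices h : fixingSubgroup G (F : Set α) ⊔
            fixingSubgroup G (((g : G) • F : Finset α) : Set α) ≤ P from h hw
        refine sup_le ?_ ?_
        · intro k hk
          refine ⟨⟨k, hH hk⟩, Subgroup.mem_sup_left ?_, rfl⟩
          have := hfix 1 k (by simpa using hk) (hH hk)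
          simpa using this
        · intro k hk
          exact ⟨⟨k, hle hk⟩, Subgroup.mem_sup_right (hfix g k hk (hle hk)), rfl⟩
      obtain ⟨w', hw', rfl⟩ := hwP
      refine ⟨w', hw', ?_⟩
      ext x
      rw [hmemF', hmemF']
      exact Finset.ext_iff.1 hwF x
  have hne : F' ≠ Finset.univ := by
    intro h
    obtain ⟨x, hx, hxF⟩ := Finset.not_subset.1 hmove
    have := Finset.eq_univ_iff_forall.1 h ⟨x, (hmem x).1 hx⟩
    exact hxF (by simpa [hF'] using this)
  have hcard : Fintype.card (MulAction.orbit H b) = (orb H b).card :=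
    Fintype.card_of_subtype (orb H b) hmem
  have hcF : F'.card = (F ∩ orb H b).card := by
    refine Finset.card_bij (fun x _ => (x : α)) ?_ ?_ ?_
    · intro x hx
      exact Finset.mem_inter.2 ⟨by simpa [hF'] using hx, (hmem _).2 x.2⟩
    · intro x _ y _ h; exact Subtype.ext h
    · intro y hy
      obtain ⟨h1, h2⟩ := Finset.mem_inter.1 hy
      exact ⟨⟨y, (hmem y).1 h2⟩, by simpa [hF'] using h1, rfl⟩
  have := ih H (MulAction.orbit H b) F' (hcard ▸ hlt) hgood hne
  omega

end Good

end

end Cfsg.Agent.PronHalf
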