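import Cfsg.Agent.Lib.PronormalHalf.Base

/-!
A subgroup of index smaller than the degree of a doubly transitive group is transitive
(Fisher's inequality), and its consequence for the stabilizers of the small orbits outside `F`.
-/

set_option autoImplicit false
set_option linter.unusedSectionVars false

open scoped Pointwise
open MulAction

namespace Cfsg.Agent.PronHalf

noncomputable section

attribute [local instance] Classical.propDecidable

theorem transitive_of_small_index {N β γ : Type*} [Group N] [Finite N] [MulAction N β]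
    [MulAction N γ] [Fintype β] (r : β) (X : Finset γ) (hX : ∀ u : N, ∀ a ∈ X, u • a ∈ X)
    (h1 : ∀ a ∈ X, ∀ b ∈ X, ∃ u : N, u • a = b)
    (h2 : ∀ a ∈ X, ∀ b ∈ X, ∀ a' ∈ X, ∀ b' ∈ X, a ≠ b → a' ≠ b' →
      ∃ u : N, u • a = a' ∧ u • b = b')
    (hcard : (Finset.univ.filter fun s : β => ∃ u : N, u • r = s).card < X.card) :
    ∀ a ∈ X, ∀ b ∈ X, ∃ u : N, u • r = r ∧ u • a = b := by
  intro a0 ha0 b0 hb0
  by_contra hcon
  set S := Finset.univ.filter fun s : β => ∃ u : N, u • r = s with hS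
  set Rel : β → γ → Prop := fun s c => ∃ u : N, u • r = s ∧ u • a0 = c with hRel
  have hRS : ∀ s c, Rel s c → s ∈ S := fun s c ⟨u, hu, _⟩ => by simp [hS]; exact ⟨u, hu⟩
  have hinv : ∀ (u : N) s c, Rel s c → Rel (u • s) (u • c) := by
    rintro u s c ⟨v, rfl, rfl⟩; exact ⟨u * v, mul_smul _ _ _, mul_smul _ _ _⟩
  have hSinv : ∀ (u : N) s, s ∈ S → u • s ∈ S := by
    intro u s hs
    simp only [hS, Finset.mem_filter, Finset.mem_univ, true_and] at hs ⊢
    obtain ⟨v, rfl⟩ := hs
    exact ⟨u * v, mul_smul _ _ _⟩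
  set Λ : γ → γ → ℕ := fun a b => (S.filter fun s => Rel s a ∧ Rel s b).card with hΛ
  have hΛinv : ∀ (u : N) a b, Λ (u • a) (u • b) = Λ a b := by
    intro u a b
    refine Finset.card_bij' (fun s _ => u⁻¹ • s) (fun s _ => u • s) ?_ ?_ ?_ ?_
    · intro s hs
      simp only [Finset.mem_filter] at hs ⊢
      refine ⟨hSinv _ _ hs.1, ?_, ?_⟩
      · simpa using hinv u⁻¹ _ _ hs.2.1
      · simpa using hinv u⁻¹ _ _ hs.2.2
    · intro s hs
      simp only [Finset.mem_filter] at hs ⊢
      exact ⟨hSinv _ _ hs.1, hinv u _ _ hs.2.1, hinv u _ _ hs.2.2⟩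
    · intro s _; exact smul_inv_smul _ _
    · intro s _; exact inv_smul_smul _ _
  have hab0 : a0 ≠ b0 := fun h => hcon ⟨1, one_smul _ _, by rw [one_smul, h]⟩
  set ρ := Λ a0 a0
  set lam := Λ a0 b0
  have hd : ∀ a ∈ X, Λ a a = ρ := by
    intro a ha
    obtain ⟨u, rfl⟩ := h1 a0 ha0 a ha
    exact hΛinv u a0 a0
  have ho : ∀ a ∈ X, ∀ b ∈ X, a ≠ b → Λ a b = lam := by
    intro a ha b hb hab
    obtain ⟨u, rfl, rfl⟩ := h2 a0 ha0 b0 hb0 a ha b hb hab0 hab
    exact hΛinv u a0 b0
  have hlt : lam < ρ := by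
    refine Finset.card_lt_card (Finset.ssubset_iff_subset_ne.2 ⟨?_, ?_⟩)
    · intro s hs
      simp only [Finset.mem_filter] at hs ⊢
      exact ⟨hs.1, hs.2.1, hs.2.1⟩
    · intro he
      have hr : r ∈ S.filter fun s => Rel s a0 ∧ Rel s a0 := by
        have : Rel r a0 := ⟨1, one_smul _ _, one_smul _ _⟩
        exact Finset.mem_filter.2 ⟨hRS _ _ this, this, this⟩
      rw [← he] at hr
      exact hcon (Finset.mem_filter.1 hr).2.2
  -- a linear map into a space of smaller dimension
  let φ : (X → ℚ) →ₗ[ℚ] (S → ℚ) :=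
    { toFun := fun v s => ∑ a : X, if Rel (s : β) (a : γ) then v a else 0
      map_add' := fun v w => by
        funext s
        simp only [Pi.add_apply, ← Finset.sum_add_distrib]
        exact Finset.sum_congr rfl fun a _ => by split <;> simp
      map_smul' := fun c v => by
        funext s
        simp only [Pi.smul_apply, smul_eq_mul, RingHom.id_apply, Finset.mul_sum]
        exact Finset.sum_congr rfl fun a _ => by split <;> simp }
  have hker : LinearMap.ker φ ≠ ⊥ := by
    refine LinearMap.ker_ne_bot_of_finrank_lt ?_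
    simp only [Module.finrank_pi, Fintype.card_coe]
    exact hcard
  obtain ⟨v, hv, hv0⟩ := (Submodule.ne_bot_iff _).1 hker
  have hz : ∀ s : S, (∑ a : X, if Rel (s : β) (a : γ) then v a else 0) = 0 := fun s =>
    congrFun (LinearMap.mem_ker.1 hv) s
  have hquad : ((ρ : ℚ) - lam) * ∑ a : X, v a ^ 2 + lam * (∑ a : X, v a) ^ 2 = 0 := by
    calc ((ρ : ℚ) - lam) * ∑ a : X, v a ^ 2 + lam * (∑ a : X, v a) ^ 2
        = ∑ a : X, ∑ b : X, v a * v b * (Λ (a : γ) (b : γ) : ℚ) := by
          rw [sq, Finset.sum_mul_sum, Finset.mul_sum, Finset.mul_sum, ← Finset.sum_add_distrib]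
          refine Finset.sum_congr rfl fun a _ => ?_
          rw [Finset.mul_sum, ← Finset.add_sum_erase _ _ (Finset.mem_univ a),
            ← Finset.add_sum_erase _ (fun b : X => v a * v b * (Λ (a : γ) (b : γ) : ℚ))
              (Finset.mem_univ a), hd _ a.2]
          have e : ∑ b ∈ Finset.univ.erase a, v a * v b * (Λ (a : γ) (b : γ) : ℚ) =
              ∑ b ∈ Finset.univ.erase a, (lam : ℚ) * (v a * v b) :=
            Finset.sum_congr rfl fun b hb => by
              rw [ho _ a.2 _ b.2 (fun h => (Finset.mem_erase.1 hb).1 (Subtype.ext h.symm))]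
              ring
          rw [e]
          ring
      _ = ∑ s : S, (∑ a : X, if Rel (s : β) (a : γ) then v a else 0) ^ 2 := by
          simp only [sq, Finset.sum_mul_sum]
          rw [Finset.sum_comm (s := (Finset.univ : Finset S))]
          refine Finset.sum_congr rfl fun a _ => ?_
          rw [Finset.sum_comm (s := (Finset.univ : Finset S))]
          refine Finset.sum_congr rfl fun b _ => ?_
          rw [show (Λ (a : γ) (b : γ) : ℚ) = ∑ s ∈ S, if Rel s a ∧ Rel s b then 1 else 0 from by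
            simp only [hΛ, Finset.card_filter, Nat.cast_sum, Nat.cast_ite, Nat.cast_one,
              Nat.cast_zero], Finset.mul_sum, ← Finset.sum_coe_sort S]
          exact Finset.sum_congr rfl fun s _ => by
            by_cases hsa : Rel (s : β) (a : γ) <;> by_cases hsb : Rel (s : β) (b : γ) <;>
              simp [hsa, hsb]
      _ = 0 := Finset.sum_eq_zero fun s _ => by rw [hz s]; norm_num
  refine hv0 (funext fun a => ?_)
  have hpos : (0 : ℚ) < (ρ : ℚ) - lam := sub_pos.2 (by exact_mod_cast hlt)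
  have h0 : ∑ a : X, v a ^ 2 = 0 := by
    have h3 : (0 : ℚ) ≤ ∑ a : X, v a ^ 2 := Finset.sum_nonneg fun a _ => sq_nonneg _
    have h4 : (0 : ℚ) ≤ lam * (∑ a : X, v a) ^ 2 :=
      mul_nonneg (Nat.cast_nonneg _) (sq_nonneg _)
    have h5 : 0 ≤ ((ρ : ℚ) - lam) * ∑ a : X, v a ^ 2 := mul_nonneg hpos.le h3
    have h6 : ((ρ : ℚ) - lam) * ∑ a : X, v a ^ 2 = 0 := by linarith
    exact (mul_eq_zero.1 h6).resolve_left hpos.ne'
  exact pow_eq_zero_iff (two_ne_zero) |>.1
    ((Finset.sum_eq_zero_iff_of_nonneg fun b _ => sq_nonneg (v b)).1 h0 a (Finset.mem_univ a))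

universe u v

variable {G : Type u} [Group G] [Finite G] {α : Type v} [Fintype α] [DecidableEq α] [MulAction G α]

/-- The elements of the stabilizer of `F` fixing `E` and the orbit `R`. -/
def orbStab (F E R : Finset α) : Subgroup G :=
  stabilizer G F ⊓ fixingSubgroup G (E : Set α) ⊓ stabilizer G R

theorem mem_orbStab {F E R : Finset α} {u : G} :
    u ∈ orbStab F E R ↔ u • F = F ∧ (∀ a ∈ E, u • a = a) ∧ u • R = R := by
  simp [orbStab, mem_fixing, and_assoc]

namespace Good

variable {F : Finset α} (hF : Good G F)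
include hF

theorem orb_images_card {t : ℕ} (h : Upto G α t) (ht : t ≤ F.card)
    (hn : Fintype.card α = 2 * F.card) {c : α} (hc : c ∉ F) :
    (Finset.univ.filter fun R' : Finset α => ∃ u : G, u • F = F ∧
      u • orb (fixingSubgroup G (F : Set α)) c = R').card * (t + 1) ≤ F.card := by
  set K := fixingSubgroup G (F : Set α)
  set S := Finset.univ.filter fun R' : Finset α => ∃ u : G, u • F = F ∧ u • orb K c = R' with hS
  have hS' : ∀ R' ∈ S, ∃ c', c' ∉ F ∧ R' = orb K c' ∧ R'.card = (orb K c).card := by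
    intro R' hR
    obtain ⟨u, huF, rfl⟩ := (Finset.mem_filter.1 hR).2
    refine ⟨u • c, ?_, Good.smul_orb huF c, Finset.card_smul_finset _ _⟩
    intro h
    rw [← huF, Finset.smul_mem_smul_finset_iff] at h
    exact hc h
  have hdisj : (S : Set (Finset α)).PairwiseDisjoint id := by
    intro R1 h1 R2 h2 hne
    obtain ⟨c1, -, rfl, -⟩ := hS' R1 h1
    obtain ⟨c2, -, rfl, -⟩ := hS' R2 h2
    refine Finset.disjoint_left.2 fun x hx1 hx2 => hne ?_
    rw [← orb_eq_of_mem hx1, ← orb_eq_of_mem hx2]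
  have hsub : S.biUnion id ⊆ Fᶜ := by
    intro x hx
    obtain ⟨R', hR, hxR⟩ := Finset.mem_biUnion.1 hx
    obtain ⟨c', hc', rfl, -⟩ := hS' R' hR
    exact Finset.mem_compl.2 (Good.orb_disjoint hc' hxR)
  have h1 := Finset.card_le_card hsub
  rw [Finset.card_biUnion hdisj, Finset.card_compl, hn] at h1
  have h2 : S.card * (t + 1) ≤ ∑ R' ∈ S, (id R').card := by
    rw [← smul_eq_mul]
    refine Finset.card_nsmul_le_sum _ _ _ fun R' hR => ?_
    obtain ⟨c', -, -, hcard⟩ := hS' R' hR
    have := hF.lt_orb_card h ht hc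
    simp only [id]
    rw [hcard]
    exact Nat.succ_le_of_lt this
  omega

/-- The stabilizer of a small orbit is transitive on `F ∖ E`. -/
theorem orbStab_transitive {t : ℕ} (h : Upto G α t) (ht : t ≤ F.card)
    (hn : Fintype.card α = 2 * F.card) {c : α} (hc : c ∉ F) {E : Finset α} (hE : E ⊆ F)
    (hEc : E.card + 2 ≤ t) {a b : α} (ha : a ∈ F \ E) (hb : b ∈ F \ E) :
    ∃ u ∈ orbStab (G := G) F E (orb (fixingSubgroup G (F : Set α)) c), u • a = b := by
  set N : Subgroup G := stabilizer G F ⊓ fixingSubgroup G (E : Set α) with hN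
  have hNmem : ∀ u : N, (u : G) • F = F ∧ ∀ x ∈ E, (u : G) • x = x := fun u =>
    ⟨mem_stabilizer_iff.1 u.2.1, mem_fixing.1 u.2.2⟩
  have hkey : ∀ p q : α, p ∈ F \ E → q ∈ F \ E → ∀ p' q' : α, p' ∈ F \ E → q' ∈ F \ E →
      p ≠ p' → q ≠ q' → ∃ u : N, u • p = q ∧ u • p' = q' := by
    intro p q hp hq p' q' hp' hq' hne hne'
    obtain ⟨hpF, hpE⟩ := Finset.mem_sdiff.1 hp
    obtain ⟨hqF, hqE⟩ := Finset.mem_sdiff.1 hq
    obtain ⟨hpF', hpE'⟩ := Finset.mem_sdiff.1 hp'
    obtain ⟨hqF', hqE'⟩ := Finset.mem_sdiff.1 hq'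
    have hinj : ∀ x y : α, x ∉ E → y ∉ E → x ≠ y →
        Function.Injective (Sum.elim (fun e : E => (e : α)) ![x, y]) := by
      intro x y hx hy hxy
      refine Function.Injective.sumElim Subtype.val_injective ?_ ?_
      · intro i j hij; fin_cases i <;> fin_cases j <;> simp_all
      · intro e j; fin_cases j <;> intro he <;> simp at he
        · exact hx (he ▸ e.2)
        · exact hy (he ▸ e.2)
    obtain ⟨u, huF, hu⟩ := hF.stab_map h (ι := E ⊕ Fin 2)
      (a := Sum.elim (fun e : E => (e : α)) ![p, p'])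
      (b := Sum.elim (fun e : E => (e : α)) ![q, q'])
      (by simp; omega) (hinj p p' hpE hpE' hne) (hinj q q' hqE hqE' hne')
      (by rintro (e | j); exacts [hE e.2, by fin_cases j <;> simpa])
      (by rintro (e | j); exacts [hE e.2, by fin_cases j <;> simpa])
    refine ⟨⟨u, mem_stabilizer_iff.2 huF, mem_fixing.2 fun x hx => hu (Sum.inl ⟨x, hx⟩)⟩,
      hu (Sum.inr 0), hu (Sum.inr 1)⟩
  have hX : ∀ u : N, ∀ x ∈ F \ E, u • x ∈ F \ E := by
    intro u x hx
    obtain ⟨hxF, hxE⟩ := Finset.mem_sdiff.1 hx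
    refine Finset.mem_sdiff.2 ⟨?_, fun hmem => ?_⟩
    · have := Finset.smul_mem_smul_finset (a := (u : G)) hxF
      rwa [(hNmem u).1] at this
    · have h1 := (hNmem u⁻¹).2 _ hmem
      simp [Subgroup.smul_def] at h1 hmem
      exact hxE (h1 ▸ hmem)
  have hXc : (F \ E).card = F.card - E.card := Finset.card_sdiff_of_subset hE
  have h1 : ∀ p ∈ F \ E, ∀ q ∈ F \ E, ∃ u : N, u • p = q := by
    intro p hp q hq
    obtain ⟨p', hp', hne⟩ : ∃ p' ∈ F \ E, p' ≠ p :=
      Finset.exists_mem_ne (by omega) p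
    obtain ⟨q', hq', hne'⟩ : ∃ q' ∈ F \ E, q' ≠ q :=
      Finset.exists_mem_ne (by omega) q
    obtain ⟨u, hu, -⟩ := hkey p q hp hq p' q' hp' hq' hne.symm hne'.symm
    exact ⟨u, hu⟩
  obtain ⟨u, huR, hu⟩ := transitive_of_small_index (N := N)
    (orb (fixingSubgroup G (F : Set α)) c) (F \ E) hX h1
    (fun p hp q hq p' hp' q' hq' hne hne' => hkey p p' hp hp' q q' hq hq' hne hne')
    (by
      have hle : (Finset.univ.filter fun s : Finset α =>
          ∃ u : N, u • orb (fixingSubgroup G (F : Set α)) c = s).card ≤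
          (Finset.univ.filter fun R' : Finset α => ∃ u : G, u • F = F ∧
            u • orb (fixingSubgroup G (F : Set α)) c = R').card := by
        refine Finset.card_le_card fun s hs => ?_
        obtain ⟨u, hu⟩ := (Finset.mem_filter.1 hs).2
        exact Finset.mem_filter.2 ⟨Finset.mem_univ _, u, (hNmem u).1, hu⟩
      have h3 := hF.orb_images_card h ht hn hc
      by_contra h4
      push Not at h4
      have hm : (F.card - t + 2) * (t + 1) ≤ F.card :=
        le_trans (Nat.mul_le_mul_right _ (by omega)) h3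
      obtain ⟨g, hg⟩ : ∃ g, F.card = g + t := ⟨F.card - t, by omega⟩
      rw [hg, Nat.add_sub_cancel] at hm
      nlinarith)
    a ha b hb
  exact ⟨u, mem_orbStab.2 ⟨(hNmem u).1, (hNmem u).2, huR⟩, hu⟩

/-- The stabilizer of a small orbit is one less transitive on `F` than `G` is. -/
theorem orbStab_map {t : ℕ} (h : Upto G α t) (ht : t ≤ F.card)
    (hn : Fintype.card α = 2 * F.card) {c : α} (hc : c ∉ F) :
    ∀ j, j + 1 ≤ t → ∀ a b : Fin j → α, Function.Injective a → Function.Injective b →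
      (∀ l, a l ∈ F) → (∀ l, b l ∈ F) →
      ∃ u ∈ orbStab (G := G) F ∅ (orb (fixingSubgroup G (F : Set α)) c), ∀ l, u • a l = b l := by
  intro j
  induction j with
  | zero =>
    intro _ a b _ _ _ _
    exact ⟨1, Subgroup.one_mem _, fun l => l.elim0⟩
  | succ j ih =>
    intro hj a b ha hb haF hbF
    obtain ⟨u1, hu1, h1⟩ := ih (by omega) (a ∘ Fin.castSucc) (b ∘ Fin.castSucc)
      (ha.comp (Fin.castSucc_injective _)) (hb.comp (Fin.castSucc_injective _))
      (fun l => haF _) (fun l => hbF _)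
    obtain ⟨h1F, -, h1R⟩ := mem_orbStab.1 hu1
    set E : Finset α := Finset.univ.image (b ∘ Fin.castSucc) with hE
    have hEF : E ⊆ F := by
      intro x hx; obtain ⟨l, -, rfl⟩ := Finset.mem_image.1 hx; exact hbF _
    have hEc : E.card + 2 ≤ t := by
      have : E.card ≤ j := Finset.card_image_le.trans (by simp)
      omega
    have hmem : ∀ x : α, x ∈ E → ∃ l : Fin j, b (Fin.castSucc l) = x := fun x hx => by
      obtain ⟨l, -, rfl⟩ := Finset.mem_image.1 hx; exact ⟨l, rfl⟩
    obtain ⟨u2, hu2, h2⟩ := hF.orbStab_transitive h ht hn hc hEF hEc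
      (a := u1 • a (Fin.last j)) (b := b (Fin.last j))
      (Finset.mem_sdiff.2 ⟨by
          have := Finset.smul_mem_smul_finset (a := u1) (haF (Fin.last j))
          rwa [h1F] at this,
        fun hx => by
          obtain ⟨l, hl⟩ := hmem _ hx
          rw [← Function.comp_apply (f := b), ← h1 l] at hl
          exact Fin.castSucc_ne_last l (ha (MulAction.injective u1 hl))⟩)
      (Finset.mem_sdiff.2 ⟨hbF _, fun hx => by
          obtain ⟨l, hl⟩ := hmem _ hx
          exact Fin.castSucc_ne_last l (hb hl)⟩)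
    obtain ⟨h2F, h2E, h2R⟩ := mem_orbStab.1 hu2
    refine ⟨u2 * u1, mem_orbStab.2 ⟨by rw [mul_smul, h1F, h2F], by simp,
      by rw [mul_smul, h1R, h2R]⟩, fun l => ?_⟩
    rw [mul_smul]
    refine Fin.lastCases h2 (fun i => ?_) l
    have := h1 i
    simp only [Function.comp_apply] at this
    rw [this]
    exact h2E _ (Finset.mem_image.2 ⟨i, Finset.mem_univ _, rfl⟩)

end Good

end

end Cfsg.Agent.PronHalf
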