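import Cfsg.Agent.Lib.PronormalHalf.Two

/-!
A translate of `F` meeting `F` in more than half of its points, the translates through such an
intersection, and the step to higher transitivity when that intersection is very large.
-/

set_option autoImplicit false
set_option linter.unusedSectionVars false

open scoped Pointwise
open MulAction

namespace Cfsg.Agent.PronHalf

universe u v

noncomputable section

attribute [local instance] Classical.propDecidable

variable {G : Type u} [Group G] [Finite G] {α : Type v} [Fintype α] [DecidableEq α] [MulAction G α]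

open Polynomial in
/-- The odd polynomial in the moment argument. -/
def oddPoly (f K e : ℕ) : ℤ[X] :=
  (C 2 * Polynomial.X - C (f : ℤ)) * ((C 2 * Polynomial.X - C (f : ℤ)) ^ 2 - C (((f : ℤ) - 2) ^ 2)) *
    ∏ k ∈ Finset.range K,
      ((C 2 * Polynomial.X - C (f : ℤ)) ^ 2 - C ((2 * (k : ℤ) + 1 + (e : ℤ)) ^ 2))

open Polynomial in
theorem oddPoly_natDegree (f K e : ℕ) : (oddPoly f K e).natDegree ≤ 3 + 2 * K := by
  have h1 : (C 2 * Polynomial.X - C (f : ℤ)).natDegree ≤ 1 := by
    refine (natDegree_sub_le _ _).trans ?_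
    rw [natDegree_C, max_le_iff]
    exact ⟨(natDegree_C_mul_le _ _).trans natDegree_X_le, Nat.zero_le _⟩
  have h2 : ∀ z : ℤ, ((C 2 * Polynomial.X - C (f : ℤ)) ^ 2 - C z).natDegree ≤ 2 := by
    intro z
    refine (natDegree_sub_le _ _).trans ?_
    rw [natDegree_C, max_le_iff]
    exact ⟨natDegree_pow_le.trans (by omega), Nat.zero_le _⟩
  refine natDegree_mul_le.trans (Nat.add_le_add ?_ ?_)
  · exact natDegree_mul_le.trans (Nat.add_le_add h1 (h2 _))
  · refine (natDegree_prod_le _ _).trans ?_
    refine (Finset.sum_le_card_nsmul _ _ 2 fun k _ => h2 _).trans ?_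
    simp [mul_comm]

theorem oddPoly_eval (f K e : ℕ) (z : ℤ) :
    (oddPoly f K e).eval z = (2 * z - f) * ((2 * z - f) ^ 2 - ((f : ℤ) - 2) ^ 2) *
      ∏ k ∈ Finset.range K, ((2 * z - f) ^ 2 - (2 * (k : ℤ) + 1 + e) ^ 2) := by
  simp [oddPoly, Polynomial.eval_prod]

namespace Good

variable {F : Finset α} (hF : Good G F)
include hF

theorem smul_compl_inter (g : G) :
    (F ∩ g • Fᶜ).card = F.card - (F ∩ g • F).card := by
  have e : g • Fᶜ = (g • F)ᶜ := by
    ext a
    simp [← Finset.inv_smul_mem_iff]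
  have e2 : F ∩ (g • F)ᶜ = F \ (g • F) := by ext a; simp
  rw [e, e2, Finset.card_sdiff, Finset.inter_comm]

omit hF in
theorem inter_card_lt {g : G} (h : g • F ≠ F) : (F ∩ g • F).card < F.card := by
  refine lt_of_le_of_ne (Finset.card_le_card Finset.inter_subset_left) fun e => h ?_
  have h1 : F ∩ g • F = F := Finset.eq_of_subset_of_card_le Finset.inter_subset_left e.ge
  exact (Finset.eq_of_subset_of_card_le (Finset.inter_eq_left.1 h1)
    (Finset.card_smul_finset g F).le).symm

theorem inter_pos (hn : Fintype.card α = 2 * F.card) (hne : F ≠ Finset.univ) (g : G) :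
    0 < (F ∩ g • F).card := by
  by_contra h0
  obtain ⟨c, hc⟩ : ∃ c, c ∉ F := by
    by_contra hh; push Not at hh; exact hne (Finset.eq_univ_iff_forall.2 hh)
  have h1 : F ∩ g • F = ∅ := Finset.card_eq_zero.1 (by omega)
  have h2 : g • F = Fᶜ := by
    refine Finset.eq_of_subset_of_card_le (fun w hw => Finset.mem_compl.2 fun hwF => ?_) ?_
    · have : w ∈ F ∩ g • F := Finset.mem_inter.2 ⟨hwF, hw⟩
      simp [h1] at this
    · rw [Finset.card_compl, Finset.card_smul_finset, hn]; omega
  exact hF.orb_not_subset hc g fun w hw => h2 ▸ Finset.mem_compl.2 (Good.orb_disjoint hc hw)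

theorem exists_big {t : ℕ} (h : Upto G α t) (ht : 3 ≤ t) (htf : t < F.card)
    (hn : Fintype.card α = 2 * F.card) (hne : F ≠ Finset.univ) :
    ∃ g : G, g • F ≠ F ∧ F.card < 2 * (F ∩ g • F).card ∧
      t + F.card ≤ 2 * (F ∩ g • F).card + 3 := by
  let _ : Fintype G := Fintype.ofFinite G
  by_contra hcon
  push Not at hcon
  set f := F.card with hf
  set e : ℕ := if Even f then 1 else 0 with he
  set K := (t - 3) / 2 with hK
  have hee : e ≤ 1 ∧ (f + e) % 2 = 1 := by
    by_cases hev : Even f
    · have := Nat.even_iff.1 hev; simp [he, hev]; omega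
    · have := Nat.not_even_iff.1 hev; simp [he, hev]; omega
  have hroot : ∀ z : ℤ, (∃ k : ℕ, k < K ∧ (z = 2 * (k : ℤ) + 1 + e ∨ z = -(2 * (k : ℤ) + 1 + e))) →
      ∏ k ∈ Finset.range K, (z ^ 2 - (2 * (k : ℤ) + 1 + e) ^ 2) = 0 := by
    rintro z ⟨k, hk, rfl | rfl⟩ <;> refine Finset.prod_eq_zero (Finset.mem_range.2 hk) ?_ <;> ring
  have hnn : ∀ g : G, 0 ≤ (oddPoly f K e).eval ((F ∩ g • F).card : ℤ) := by
    intro g
    set i := (F ∩ g • F).card with hi
    rw [oddPoly_eval]
    have hif : i ≤ f := Finset.card_le_card Finset.inter_subset_left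
    by_cases hg : g • F = F
    · have : i = f := by rw [hi, hg, Finset.inter_self]
      rw [this]
      have hf2 : (2 : ℤ) * f - f = f := by ring
      rw [hf2]
      refine mul_nonneg (mul_nonneg (by positivity) ?_) (Finset.prod_nonneg fun k hk => ?_)
      · have : (3 : ℤ) ≤ f := by exact_mod_cast (show 3 ≤ f by omega)
        nlinarith
      · have := Finset.mem_range.1 hk
        have hle : (2 * (k : ℤ) + 1 + e) ≤ f := by exact_mod_cast (show 2 * k + 1 + e ≤ f by omega)
        have h0 : (0 : ℤ) ≤ 2 * (k : ℤ) + 1 + e := by positivity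
        nlinarith
    · have hlt : i < f := Good.inter_card_lt hg
      have hpos : 0 < i := hF.inter_pos hn hne g
      by_cases hx : f < 2 * i
      · have h3 := hcon g hg hx
        rw [hroot (2 * (i : ℤ) - f) ⟨(2 * i - f - 1 - e) / 2, by omega, Or.inl ?_⟩]
        · simp
        · have : 2 * i = f + (2 * ((2 * i - f - 1 - e) / 2) + 1 + e) := by omega
          have h4 : ((2 * i : ℕ) : ℤ) = ((f + (2 * ((2 * i - f - 1 - e) / 2) + 1 + e) : ℕ) : ℤ) :=
            congrArg _ this
          omega
      · by_cases hx0 : 2 * i = f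
        · have : (2 : ℤ) * i - f = 0 := by omega
          rw [this]; simp
        by_cases hin : f - 2 * i + 1 ≤ 2 * K + e
        · rw [hroot (2 * (i : ℤ) - f) ⟨(f - 2 * i - 1 - e) / 2, by omega, Or.inr ?_⟩]
          · simp
          · omega
        · refine mul_nonneg ?_ (Finset.prod_nonneg fun k hk => ?_)
          · refine mul_nonneg_of_nonpos_of_nonpos (by omega) ?_
            have h5 : ((f : ℤ) - 2 * i) ≤ (f : ℤ) - 2 := by omega
            have h6 : (0 : ℤ) ≤ (f : ℤ) - 2 * i := by omega
            nlinarith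
          · have := Finset.mem_range.1 hk
            have h5 : (2 * (k : ℤ) + 1 + e) ≤ (f : ℤ) - 2 * i := by omega
            have h0 : (0 : ℤ) ≤ 2 * (k : ℤ) + 1 + e := by positivity
            nlinarith
  have hsum : ∑ g : G, (oddPoly f K e).eval ((F ∩ g • F).card : ℤ) =
      -∑ g : G, (oddPoly f K e).eval ((F ∩ g • F).card : ℤ) := by
    conv_lhs => rw [(h.homog).eval_sum (V' := Fᶜ) (Finset.subset_univ F) (Finset.subset_univ F)
      (Finset.subset_univ _) (by rw [Finset.card_compl, hn]; omega)
      ((oddPoly_natDegree f K e).trans (by omega))]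
    rw [← Finset.sum_neg_distrib]
    refine Finset.sum_congr rfl fun g _ => ?_
    rw [hF.smul_compl_inter, oddPoly_eval, oddPoly_eval,
      Nat.cast_sub (Finset.card_le_card Finset.inter_subset_left)]
    have : (2 : ℤ) * ((f : ℤ) - (F ∩ g • F).card) - f = -(2 * ((F ∩ g • F).card : ℤ) - f) := by
      ring
    rw [this, neg_sq]
    ring
  have hzero := (Finset.sum_eq_zero_iff_of_nonneg fun g _ => hnn g).1 (by linarith) 1
    (Finset.mem_univ _)
  rw [oddPoly_eval, one_smul, Finset.inter_self] at hzero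
  have h7 : (0 : ℤ) < (2 * (f : ℤ) - f) * ((2 * (f : ℤ) - f) ^ 2 - ((f : ℤ) - 2) ^ 2) *
      ∏ k ∈ Finset.range K, ((2 * (f : ℤ) - f) ^ 2 - (2 * (k : ℤ) + 1 + e) ^ 2) := by
    have : (3 : ℤ) ≤ f := by exact_mod_cast (show 3 ≤ f by omega)
    refine mul_pos (mul_pos (by linarith) (by nlinarith)) (Finset.prod_pos fun k hk => ?_)
    have := Finset.mem_range.1 hk
    have hle : (2 * (k : ℤ) + 1 + e) < f := by exact_mod_cast (show 2 * k + 1 + e < f by omega)
    have h0 : (0 : ℤ) ≤ 2 * (k : ℤ) + 1 + e := by positivity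
    nlinarith
  rw [← hf] at hzero
  linarith

/-- A translate with the largest intersection with `F`. -/
theorem exists_max {t : ℕ} (h : Upto G α t) (ht : 3 ≤ t) (htf : t < F.card)
    (hn : Fintype.card α = 2 * F.card) (hne : F ≠ Finset.univ) :
    ∃ g1 : G, g1 • F ≠ F ∧ t ≤ (F ∩ g1 • F).card ∧ F.card < 2 * (F ∩ g1 • F).card ∧
      t + F.card ≤ 2 * (F ∩ g1 • F).card + 3 ∧
      ∀ g : G, g • F ≠ F → (F ∩ g • F).card ≤ (F ∩ g1 • F).card := by
  let _ : Fintype G := Fintype.ofFinite G
  obtain ⟨g0, hg0, hb1, hb2⟩ := hF.exists_big h ht htf hn hne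
  obtain ⟨g1, hg1, hmax⟩ := Finset.exists_max_image (Finset.univ.filter fun g : G => g • F ≠ F)
    (fun g => (F ∩ g • F).card) ⟨g0, by simp [hg0]⟩
  have hmax' : ∀ g : G, g • F ≠ F → (F ∩ g • F).card ≤ (F ∩ g1 • F).card :=
    fun g hg => hmax g (by simp [hg])
  have hle := hmax' g0 hg0
  refine ⟨g1, (Finset.mem_filter.1 hg1).2, ?_, by omega, by omega, hmax'⟩
  by_contra hit
  -- every `t`-subset is then in a single translate
  have hlt := Good.inter_card_lt (Finset.mem_filter.1 hg1).2
  have hfeq : F.card = t + 1 := by omega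
  obtain ⟨A, hA, hAc⟩ := Finset.exists_subset_card_eq htf.le
  have c1 := (h.homog).count (V := F) (Y := A) (Finset.subset_univ _) (Finset.subset_univ _)
    (le_of_eq hAc)
  have c2 := (h.homog).count (V := Finset.univ) (Y := A) (Finset.subset_univ _)
    (Finset.subset_univ _) (le_of_eq hAc)
  have hS : (Finset.univ.filter fun g : G => A ⊆ g • F) =
      Finset.univ.filter fun g : G => g • F = F := by
    ext g
    simp only [Finset.mem_filter, Finset.mem_univ, true_and]
    refine ⟨fun hAg => ?_, fun e => e.symm ▸ hA⟩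
    by_contra hg
    have := hmax' g hg
    have h3 := Finset.card_le_card (Finset.subset_inter hA hAg)
    omega
  rw [hS, hAc] at c1
  simp only [Finset.smul_finset_univ, Finset.subset_univ, Finset.filter_true, Finset.card_univ,
    hAc, hn] at c2
  have e := (h.homog).eval_average (U := F) (V := F) (Finset.subset_univ _) (Finset.subset_univ _)
    (P := sieve t) (sieve_natDegree t)
  have hgroup : ∑ g : G, (sieve t).eval ((F ∩ g • F).card : ℤ) =
      ((Finset.univ.filter fun g : G => g • F = F).card : ℤ) * (t.factorial : ℤ) := by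
    rw [← Finset.sum_filter_add_sum_filter_not Finset.univ (fun g : G => g • F = F),
      Finset.sum_congr rfl (fun g hg => by
        rw [(Finset.mem_filter.1 hg).2, Finset.inter_self, hfeq, show t + 1 = t + 0 + 1 from rfl,
          sieve_eval_above t 0]),
      Finset.sum_const, nsmul_eq_mul, Finset.sum_eq_zero (fun g hg => ?_), add_zero]
    · simp [Nat.descFactorial_self]
    · have hg' := (Finset.mem_filter.1 hg).2
      refine sieve_eval_root (hF.inter_pos hn hne g) ?_
      have := hmax' g hg'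
      omega
  have hsets : ∑ W ∈ (Finset.univ : Finset α).powersetCard F.card,
      (sieve t).eval ((F ∩ W).card : ℤ) ≤ 2 * (t.factorial : ℤ) := by
    have hsub : ({F, Fᶜ} : Finset (Finset α)) ⊆ (Finset.univ : Finset α).powersetCard F.card := by
      intro W hW
      simp only [Finset.mem_insert, Finset.mem_singleton] at hW
      rcases hW with rfl | rfl
      · exact Finset.mem_powersetCard.2 ⟨Finset.subset_univ _, rfl⟩
      · exact Finset.mem_powersetCard.2 ⟨Finset.subset_univ _, by
          rw [Finset.card_compl, hn]; omega⟩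
    have hne' : F ≠ Fᶜ := by
      intro e'
      obtain ⟨a, ha⟩ : F.Nonempty := Finset.card_pos.1 (by omega)
      exact (Finset.mem_compl.1 (e' ▸ ha : a ∈ Fᶜ)) ha
    rw [← Finset.sum_subset hsub, Finset.sum_pair hne', Finset.inter_self,
      show F ∩ Fᶜ = ∅ from by simp, hfeq, show t + 1 = t + 0 + 1 from rfl,
      sieve_eval_above t 0]
    · simp [Nat.descFactorial_self, sieve_eval_zero]
      rcases Nat.even_or_odd t with he | ho
      · rw [he.neg_one_pow]; linarith
      · rw [ho.neg_one_pow]; linarith [Int.natCast_nonneg t.factorial]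
    · intro W hW hW'
      obtain ⟨-, hWc⟩ := Finset.mem_powersetCard.1 hW
      simp only [Finset.mem_insert, Finset.mem_singleton, not_or] at hW'
      refine sieve_eval_root ?_ ?_
      · rw [Nat.one_le_iff_ne_zero, Ne, Finset.card_eq_zero]
        intro h0
        refine hW'.2 (Finset.eq_of_subset_of_card_le (fun w hw => Finset.mem_compl.2 fun hwF => ?_)
          (by rw [Finset.card_compl, hn, hWc]; omega))
        have : w ∈ F ∩ W := Finset.mem_inter.2 ⟨hwF, hw⟩
        simp [h0] at this
      · by_contra hbig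
        have h8 : F ∩ W = F := Finset.eq_of_subset_of_card_le Finset.inter_subset_left (by omega)
        exact hW'.1 (Finset.eq_of_subset_of_card_le (Finset.inter_eq_left.1 h8) hWc.le).symm
  rw [hgroup, Finset.card_univ, hn] at e
  have hG : (0 : ℤ) ≤ Fintype.card G := Int.natCast_nonneg _
  have hfac : (0 : ℤ) < (t.factorial : ℤ) := by exact_mod_cast t.factorial_pos
  have h9 : (((2 * F.card).choose F.card *
      (Finset.univ.filter fun g : G => g • F = F).card : ℕ) : ℤ) * (t.factorial : ℤ) ≤
      ((2 * Fintype.card G : ℕ) : ℤ) * (t.factorial : ℤ) := by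
    push_cast
    nlinarith [mul_le_mul_of_nonneg_left hsets hG]
  have h10 : (2 * F.card).choose F.card * (Finset.univ.filter fun g : G => g • F = F).card ≤
      2 * Fintype.card G := by exact_mod_cast le_of_mul_le_mul_right h9 hfac
  rw [c1, c2, hfeq, Nat.choose_succ_self_right] at h10
  have hpos : 0 < (Finset.univ.filter fun g : G => g • A = A).card :=
    Finset.card_pos.2 ⟨1, by simp⟩
  have h11 : (2 * (t + 1)).choose (t + 1) * (t + 1) ≤ 2 * (2 * (t + 1)).choose t := by
    refine Nat.le_of_mul_le_mul_left ?_ hpos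
    linarith
  rw [Nat.choose_succ_right_eq, show 2 * (t + 1) - t = t + 2 by omega] at h11
  have : 0 < (2 * (t + 1)).choose t := Nat.choose_pos (by omega)
  nlinarith

/-- The translates containing the intersection meet pairwise in it. -/
theorem meet_eq {g1 g g' : G} (hmax : ∀ g : G, g • F ≠ F → (F ∩ g • F).card ≤ (F ∩ g1 • F).card)
    (hg : F ∩ g1 • F ⊆ g • F) (hg' : F ∩ g1 • F ⊆ g' • F) (hne : g • F ≠ g' • F) :
    g • F ∩ g' • F = F ∩ g1 • F := by
  refine (Finset.eq_of_subset_of_card_le (Finset.subset_inter hg hg') ?_).symm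
  have h1 := hmax (g⁻¹ * g') (fun e => hne (by rw [mul_smul, inv_smul_eq_iff] at e; exact e.symm))
  have h2 : g • F ∩ g' • F = g • (F ∩ (g⁻¹ * g') • F) := by
    rw [Finset.smul_finset_inter, smul_smul, mul_inv_cancel_left]
  rwa [h2, Finset.card_smul_finset]

/-- The pointwise stabilizer of `F` moves every other translate through the intersection. -/
theorem exists_move {g1 : G} (hg1 : g1 • F ≠ F) :
    ∃ k ∈ fixingSubgroup G (F : Set α), k • (g1 • F) ≠ g1 • F := by
  by_contra hcon
  push Not at hcon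
  obtain ⟨w, hw, hwF⟩ := hF.conj g1
  have h1 : w • (g1 • F) = g1 • F := by
    refine mem_stabilizer_iff.1 ?_
    exact (sup_le (fun k hk => mem_stabilizer_iff.2 (hcon k hk))
      (fixing_le_stabilizer _) :
      fixingSubgroup G (F : Set α) ⊔ fixingSubgroup G ((g1 • F : Finset α) : Set α) ≤ _) hw
  exact hg1 ((smul_left_cancel_iff w).1 (h1.trans hwF.symm))

/-- From one orbit on `F ∖ A` to one orbit outside `A`. -/
theorem all_one_orbit (ih : Bound.{u, v} (Fintype.card α)) {t : ℕ} (h : Upto G α t) (ht : 3 ≤ t)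
    (htf : t < F.card) (hn : Fintype.card α = 2 * F.card) {A : Finset α} (hA : A ⊆ F)
    (hAc : A.card = t) {g : G} (hg : A ⊆ g • F) (hgne : g • F ≠ F)
    (hall : ∀ x ∈ F \ A, ∀ y ∈ F \ A, y ∈ orb (fixingSubgroup G (A : Set α)) x)
    {x y : α} (hx : x ∉ A) (hy : y ∉ A) : y ∈ orb (fixingSubgroup G (A : Set α)) x := by
  set H := fixingSubgroup G (A : Set α)
  obtain ⟨x0, hx0⟩ : (F \ A).Nonempty := Finset.card_pos.1 (by
    rw [Finset.card_sdiff_of_subset hA]; omega)
  have hx0A : x0 ∉ A := (Finset.mem_sdiff.1 hx0).2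
  set O := orb H x0 with hO
  obtain ⟨w, hw, hwF⟩ := hF.ext hA hg
  have hmove : ¬ O ⊆ F := by
    intro hsub
    refine hgne ?_
    rw [← hwF]
    refine Finset.eq_of_subset_of_card_le (fun z hz => ?_) (Finset.card_smul_finset w F).ge
    obtain ⟨z', hz', rfl⟩ := Finset.mem_smul_finset.1 hz
    by_cases hzA : z' ∈ A
    · rw [mem_fixing.1 hw z' hzA]; exact hA hzA
    · exact hsub (smul_mem_orb hw (hall x0 hx0 z' (Finset.mem_sdiff.2 ⟨hz', hzA⟩)))
  have hb := hF.orbit_bound ih (fixing_mono hA)
    (Good.orb_card_lt (Finset.card_pos.1 (by omega)) hx0A) hmove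
  have hFO : (F \ A).card ≤ (F ∩ O).card :=
    Finset.card_le_card fun z hz =>
      Finset.mem_inter.2 ⟨(Finset.mem_sdiff.1 hz).1, hall x0 hx0 z hz⟩
  rw [Finset.card_sdiff_of_subset hA] at hFO
  have hcover : ∀ z, z ∉ A → z ∈ O := by
    intro z hz
    by_contra hzO
    have hzF : z ∉ F := fun hzF => hzO (hall x0 hx0 z (Finset.mem_sdiff.2 ⟨hzF, hz⟩))
    set R := orb (fixingSubgroup G (F : Set α)) z with hR
    have hlt := hF.lt_orb_card h htf.le hzF
    have hdO : Disjoint R O := Finset.disjoint_left.2 fun p hp hpO => by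
      obtain ⟨k, hk, rfl⟩ := mem_orb.1 hp
      have := smul_mem_orb (H.inv_mem (fixing_mono hA hk)) hpO
      rw [inv_smul_smul] at this
      exact hzO this
    have hdA : Disjoint (R ∪ O) A := Finset.disjoint_left.2 fun p hp hpA => by
      rcases Finset.mem_union.1 hp with hp | hp
      · exact Good.orb_disjoint hzF hp (hA hpA)
      · exact Good.orb_disjoint_fixed hx0A hp hpA
    have h5 := Finset.card_le_univ ((R ∪ O) ∪ A)
    rw [Finset.card_union_of_disjoint hdA, Finset.card_union_of_disjoint hdO, hn] at h5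
    change 2 * (F ∩ O).card + 1 ≤ O.card at hb
    change t < R.card at hlt
    omega
  rw [orb_eq_of_mem (hcover x hx)]
  exact hcover y hy

/-- The step to higher transitivity when the largest intersection is at least two thirds. -/
theorem step_cover (ih : Bound.{u, v} (Fintype.card α)) {t : ℕ} (h : Upto G α t) (ht : 3 ≤ t)
    (htf : t < F.card) (hn : Fintype.card α = 2 * F.card) {g1 : G} (hg1 : g1 • F ≠ F)
    (hti : t ≤ (F ∩ g1 • F).card) (hbig : 3 * (F.card - (F ∩ g1 • F).card) ≤ F.card) :
    Upto G α (t + 1) := by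
  refine h.succ htf.le ?_
  intro A hA hAc
  set I := F ∩ g1 • F with hI
  have hIlt : I.card < F.card := Good.inter_card_lt hg1
  obtain ⟨x0, hx0⟩ : (F \ g1 • F).Nonempty := by
    by_contra h0
    rw [Finset.not_nonempty_iff_eq_empty, Finset.sdiff_eq_empty_iff_subset] at h0
    have : I = F := Finset.inter_eq_left.2 h0
    rw [this] at hIlt; omega
  obtain ⟨w, hw, hwF⟩ := hF.ext (g := g1) (E := I) Finset.inter_subset_left Finset.inter_subset_right
  obtain ⟨hx0F, hx0n⟩ := Finset.mem_sdiff.1 hx0
  set c := w • x0 with hcdef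
  have hcF1 : c ∈ g1 • F := hwF ▸ Finset.smul_mem_smul_finset hx0F
  have hc : c ∉ F := by
    intro hcF
    have h1 : w • c = c := mem_fixing.1 hw c (Finset.mem_inter.2 ⟨hcF, hcF1⟩)
    have h2 : c = x0 := MulAction.injective w h1
    exact hx0n (h2 ▸ hcF1)
  set R := orb (fixingSubgroup G (F : Set α)) c with hR
  have hlink : ∀ B : Finset α, B ⊆ F → B.card = t → ∀ x ∈ F, x ∉ B →
      c ∈ orb (fixingSubgroup G (B : Set α)) x := by
    intro B hB hBc x hx hxB
    obtain ⟨u, hu, hux⟩ := hF.orbStab_map h htf.le hn hc 1 (by omega) ![x0] ![x]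
      (Function.injective_of_subsingleton _) (Function.injective_of_subsingleton _)
      (fun l => by fin_cases l; exact hx0F) (fun l => by fin_cases l; exact hx)
    obtain ⟨huF, -, huR⟩ := mem_orbStab.1 hu
    have hux0 : u • x0 = x := hux 0
    set Hs : Subgroup G := orbStab (G := G) F {x} R with hHs
    have hmemH : ∀ q : Hs, (q : G) • F = F ∧ (q : G) • x = x ∧ (q : G) • R = R := fun q => by
      obtain ⟨a1, a2, a3⟩ := mem_orbStab.1 q.2
      exact ⟨a1, a2 x (Finset.mem_singleton_self x), a3⟩
    let _ : Fintype Hs := Fintype.ofFinite Hs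
    have hX : Homog Hs (F.erase x) (t - 2) := by
      refine ⟨fun q a ha => ?_, fun P Q hP hQ hPk hPQ => ?_⟩
      · obtain ⟨hax, haF⟩ := Finset.mem_erase.1 ha
        refine Finset.mem_erase.2 ⟨fun e => hax (MulAction.injective (q : G)
          (e.trans (hmemH q).2.1.symm)), ?_⟩
        have := Finset.smul_mem_smul_finset (a := (q : G)) haF
        rwa [(hmemH q).1] at this
      · set a : Fin P.card → α := fun l => (P.equivFin.symm l : α)
        set b : Fin P.card → α := fun l => ((Q.equivFinOfCardEq hPQ.symm).symm l : α)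
        have hai : Function.Injective a := Subtype.val_injective.comp (Equiv.injective _)
        have hbi : Function.Injective b := Subtype.val_injective.comp (Equiv.injective _)
        obtain ⟨q, hq, hqm⟩ := hF.orbStab_map h htf.le hn hc (P.card + 1) (by omega)
          (Fin.cons x a) (Fin.cons x b)
          (Fin.cons_injective_iff.2 ⟨fun ⟨l, hl⟩ => (Finset.mem_erase.1 (hP (P.equivFin.symm l).2)).1 hl, hai⟩)
          (Fin.cons_injective_iff.2 ⟨fun ⟨l, hl⟩ => (Finset.mem_erase.1
            (hQ ((Q.equivFinOfCardEq hPQ.symm).symm l).2)).1 hl, hbi⟩)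
          (fun l => by
            refine Fin.cases ?_ (fun i => ?_) l
            · exact hx
            · exact (Finset.mem_erase.1 (hP (P.equivFin.symm i).2)).2)
          (fun l => by
            refine Fin.cases ?_ (fun i => ?_) l
            · exact hx
            · exact (Finset.mem_erase.1 (hQ ((Q.equivFinOfCardEq hPQ.symm).symm i).2)).2)
        obtain ⟨q1, -, q3⟩ := mem_orbStab.1 hq
        have hqx : q • x = x := hqm 0
        refine ⟨⟨q, mem_orbStab.2 ⟨q1, fun z hz => by
          rw [Finset.mem_singleton.1 hz]; exact hqx, q3⟩⟩, ?_⟩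
        refine Finset.eq_of_subset_of_card_le (fun z hz => ?_)
          (by rw [Finset.card_smul_finset, hPQ])
        obtain ⟨p, hp, rfl⟩ := Finset.mem_smul_finset.1 hz
        have h4 := hqm (Fin.succ (P.equivFin ⟨p, hp⟩))
        simp only [Fin.cons_succ, a, b, Equiv.symm_apply_apply] at h4
        show q • p ∈ Q
        rw [h4]
        exact Subtype.coe_prop _
    have huI : u • I ⊆ F.erase x := by
      intro z hz
      obtain ⟨z', hz', rfl⟩ := Finset.mem_smul_finset.1 hz
      obtain ⟨z1, z2⟩ := Finset.mem_inter.1 hz'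
      refine Finset.mem_erase.2 ⟨fun e => hx0n (MulAction.injective u (e.trans hux0.symm) ▸ z2), ?_⟩
      have := Finset.smul_mem_smul_finset (a := u) z1
      rwa [huF] at this
    have hXJ : (F.erase x) \ ((F.erase x) \ u • I) = u • I := Finset.sdiff_sdiff_eq_self huI
    have hBX : B ⊆ F.erase x := fun z hz => Finset.mem_erase.2 ⟨fun e => hxB (e ▸ hz), hB hz⟩
    obtain ⟨q, hq⟩ := exists_disjoint_smul (H := Hs) (X := F.erase x) (A := B)
      (J := (F.erase x) \ u • I) ht hX hBX hBc Finset.sdiff_subset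
      (by rw [hXJ, Finset.card_smul_finset]; exact hti)
      (by
        rw [hXJ, Finset.card_sdiff_of_subset huI, Finset.card_smul_finset,
          Finset.card_erase_of_mem hx]
        omega)
    set v : G := (q : G)⁻¹ * u with hv
    have hvB : ∀ z ∈ B, v⁻¹ • z ∈ I := by
      intro z hz
      have hz1 : q • z ∈ F.erase x := hX.mem q z (hBX hz)
      have hz2 : q • z ∈ u • I := by
        by_contra hno
        exact Finset.disjoint_left.1 hq (Finset.mem_sdiff.2 ⟨hz1, hno⟩)
          (Finset.smul_mem_smul_finset hz)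
      rw [← Finset.inv_smul_mem_iff] at hz2
      rw [hv, mul_inv_rev, inv_inv, mul_smul]
      exact hz2
    have hvR : v • R = R := by rw [hv, mul_smul, huR, inv_smul_eq_iff, (hmemH q).2.2]
    have hvx : v • x0 = x := by rw [hv, mul_smul, hux0, inv_smul_eq_iff, (hmemH q).2.1]
    have hvc : v • c ∈ R := hvR ▸ Finset.smul_mem_smul_finset (self_mem_orb _ c)
    obtain ⟨k, hk, hkc⟩ := mem_orb.1 hvc
    refine mem_orb.2 ⟨k⁻¹ * (v * w * v⁻¹), mem_fixing.2 fun z hz => ?_, ?_⟩
    · rw [mul_smul, mul_smul, mul_smul, mem_fixing.1 hw _ (hvB z hz), smul_inv_smul, inv_smul_eq_iff,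
        mem_fixing.1 hk z (hB hz)]
    · rw [mul_smul, mul_smul, mul_smul, ← hvx, inv_smul_smul, ← hcdef, ← hkc, inv_smul_smul]
  obtain ⟨A', hA', hA'c⟩ := Finset.exists_subset_card_eq hti
  obtain ⟨u, huF, hu⟩ := hF.stab_map h (ι := A) (a := fun l => (l : α))
    (b := fun l => ((Finset.equivOfCardEq (hAc.trans hA'c.symm) l : A') : α))
    (by simp [hAc]) Subtype.val_injective (Subtype.val_injective.comp (Equiv.injective _))
    (fun l => hA l.2) (fun l => (Finset.mem_inter.1 (hA' (Subtype.coe_prop _))).1)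
  refine fun x y hx hy => hF.all_one_orbit ih h ht htf hn hA hAc (g := u⁻¹ * g1) ?_ ?_ ?_ hx hy
  · intro z hz
    rw [mul_smul, Finset.mem_inv_smul_finset_iff, hu ⟨z, hz⟩]
    exact (Finset.mem_inter.1 (hA' (Subtype.coe_prop _))).2
  · intro e
    rw [mul_smul, inv_smul_eq_iff, huF] at e
    exact hg1 e
  · intro p hp q hq
    obtain ⟨hpF, hpA⟩ := Finset.mem_sdiff.1 hp
    obtain ⟨hqF, hqA⟩ := Finset.mem_sdiff.1 hq
    rw [← orb_eq_of_mem (hlink A hA hAc p hpF hpA), orb_eq_of_mem (hlink A hA hAc q hqF hqA)]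
    exact self_mem_orb _ q

end Good

end

end Cfsg.Agent.PronHalf
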