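import Cfsg.Agent.Lib.PronormalHalf.Three

/-!
The bound on the number of fixed points of a pronormal subgroup, by induction on the degree.
-/

set_option autoImplicit false
set_option linter.unusedSectionVars false

open scoped Pointwise
open MulAction

namespace Cfsg.Agent.PronHalf

universe u v

noncomputable section

attribute [local instance] Classical.propDecidable

variable {G : Type u} [Group G] [Finite G] {α : Type v} [Fintype α] [DecidableEq α] [MulAction G α]

namespace Good

variable {F : Finset α} (hF : Good G F)
include hF

/-- High transitivity propagates up to the size of `F`, which is impossible. -/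
theorem not_upto (ih : Bound.{u, v} (Fintype.card α)) (hn : Fintype.card α = 2 * F.card)
    (hne : F ≠ Finset.univ) : ∀ k t : ℕ, F.card = t + k → 3 ≤ t → Upto G α t → False := by
  intro k
  induction k with
  | zero =>
    intro t ht _ h
    exact absurd (hF.lt_card h (by omega) hn hne) (by omega)
  | succ k ihk =>
    intro t ht h3 h
    have htf : t < F.card := by omega
    obtain ⟨g1, hg1, hti, hpos, htx, hmax⟩ := hF.exists_max h h3 htf hn hne
    refine ihk (t + 1) (by omega) (by omega) ?_
    rcases le_or_gt (3 * (F.card - (F ∩ g1 • F).card)) F.card with hc | hc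
    · exact hF.step_cover ih h h3 htf hn hg1 hti hc
    · exact hF.step_three ih h h3 htf hn hg1 hti hpos htx hmax hc

end Good

/-- A transitive group with a pronormal subgroup fixes fewer than half of the points. -/
theorem bound_all : ∀ n : ℕ, Bound.{u, v} n := by
  intro n
  induction n with
  | zero =>
    intro G _ _ α _ _ _ _ F hlt
    omega
  | succ n ihn =>
    intro G _ _ α _ _ _ _ F hlt hF hne
    rcases Nat.lt_or_ge (Fintype.card α) n with h | h
    · exact ihn G α F h hF hne
    have ih : Bound.{u, v} (Fintype.card α) := by
      rwa [show Fintype.card α = n by omega]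
    by_contra hcon
    obtain ⟨hn, h2⟩ := (hF.bound_or_two ih hne).resolve_left hcon
    have h1 : 1 ≤ F.card := by
      obtain ⟨c, -⟩ : ∃ c, c ∉ F := by
        by_contra hh; push Not at hh; exact hne (Finset.eq_univ_iff_forall.2 hh)
      have := Fintype.card_pos_iff.2 ⟨c⟩
      omega
    have hf2 : 1 < F.card := hF.lt_card (fun j hj => h2 j (by omega)) h1 hn hne
    have hf3 : 2 < F.card := hF.lt_card h2 hf2 hn hne
    exact hF.not_upto ih hn hne (F.card - 3) 3 (by omega) le_rfl (hF.two_to_three ih h2 hn hne hf2)

/-- The bound in terms of a good set. -/
theorem Good.two_mul_card_add_one_le [IsPretransitive G α] {F : Finset α} (hF : Good G F)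
    (hne : F ≠ Finset.univ) : 2 * F.card + 1 ≤ Fintype.card α :=
  bound_all (Fintype.card α + 1) G α F (Nat.lt_succ_self _) hF hne

end

end Cfsg.Agent.PronHalf
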