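import Cfsg.Agent.Lib.PronormalHalf.Defs

/-!
Intersection moments for groups that are homogeneous on small subsets, and the resulting
covering lemma: a family of large subsets that is invariant under a `(t-2)`-homogeneous group
has a member avoiding the prescribed `t`-subset.
-/

set_option autoImplicit false
set_option linter.unusedSectionVars false

open scoped Pointwise
open MulAction

namespace Cfsg.Agent.PronHalf

noncomputable section

attribute [local instance] Classical.propDecidable

variable {H : Type*} [Group H] [Fintype H] {α : Type*} [DecidableEq α] [MulAction H α]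

/-- `H` preserves `X` and is homogeneous on its subsets of size at most `k`. -/
structure Homog (H : Type*) [Group H] {α : Type*} [DecidableEq α] [MulAction H α]
    (X : Finset α) (k : ℕ) : Prop where
  mem : ∀ g : H, ∀ a ∈ X, g • a ∈ X
  hom : ∀ A B : Finset α, A ⊆ X → B ⊆ X → A.card ≤ k → A.card = B.card → ∃ g : H, g • A = B

variable {X : Finset α} {k : ℕ} (hX : Homog H X k)
include hX

theorem Homog.smul_subset {A : Finset α} (hA : A ⊆ X) (g : H) : g • A ⊆ X := by
  intro a ha
  obtain ⟨b, hb, rfl⟩ := Finset.mem_smul_finset.1 ha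
  exact hX.mem g b (hA hb)

theorem Homog.count {V Y : Finset α} (hV : V ⊆ X) (hY : Y ⊆ X) (hk : Y.card ≤ k) :
    (Finset.univ.filter fun g : H => Y ⊆ g • V).card =
      (Finset.univ.filter fun g : H => g • Y = Y).card * V.card.choose Y.card := by
  have hmaps : ∀ g ∈ (Finset.univ.filter fun g : H => Y ⊆ g • V),
      g⁻¹ • Y ∈ V.powersetCard Y.card := by
    intro g hg
    refine Finset.mem_powersetCard.2 ⟨?_, Finset.card_smul_finset _ _⟩
    intro a ha
    obtain ⟨b, hb, rfl⟩ := Finset.mem_smul_finset.1 ha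
    exact Finset.inv_smul_mem_iff.2 ((Finset.mem_filter.1 hg).2 hb)
  rw [Finset.card_eq_sum_card_fiberwise hmaps, Finset.sum_const_nat (m :=
    (Finset.univ.filter fun g : H => g • Y = Y).card), Finset.card_powersetCard, mul_comm]
  intro Z hZ
  obtain ⟨hZV, hZc⟩ := Finset.mem_powersetCard.1 hZ
  obtain ⟨g0, hg0⟩ := hX.hom Z Y (hZV.trans hV) hY (hZc ▸ hk) hZc
  refine Finset.card_bij' (fun g _ => g * g0⁻¹) (fun g _ => g * g0) ?_ ?_ ?_ ?_
  · intro g hg
    simp only [Finset.mem_filter, Finset.mem_univ, true_and] at hg ⊢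
    have h1 : g0⁻¹ • Y = Z := inv_smul_eq_iff.2 hg0.symm
    rw [mul_smul, h1, ← hg.2, smul_inv_smul]
  · intro g hg
    simp only [Finset.mem_filter, Finset.mem_univ, true_and] at hg ⊢
    constructor
    · calc Y = g • Y := hg.symm
        _ = g • g0 • Z := by rw [hg0]
        _ ⊆ g • g0 • V := Finset.smul_finset_subset_smul_finset
              (Finset.smul_finset_subset_smul_finset hZV)
        _ = (g * g0) • V := (mul_smul _ _ _).symm
    · rw [inv_smul_eq_iff, mul_smul, hg0, hg]
  · intro g _; simp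
  · intro g _; simp

/-- The power sums of the intersections with the translates of `V` depend only on `|V|`. -/
theorem Homog.pow_sum {U V V' : Finset α} (hU : U ⊆ X) (hV : V ⊆ X) (hV' : V' ⊆ X)
    (hc : V.card = V'.card) {j : ℕ} (hj : j ≤ k) :
    ∑ g : H, (U ∩ g • V).card ^ j = ∑ g : H, (U ∩ g • V').card ^ j := by
  have key : ∀ W : Finset α, W ⊆ X → ∑ g : H, (U ∩ g • W).card ^ j =
      ∑ e ∈ Fintype.piFinset (fun _ : Fin j => U),
        (Finset.univ.filter fun g : H => g • Finset.univ.image e = Finset.univ.image e).card *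
          W.card.choose (Finset.univ.image e).card := by
    intro W hW
    have h1 : ∀ g : H, (U ∩ g • W).card ^ j = ∑ e ∈ Fintype.piFinset (fun _ : Fin j => U),
        if Finset.univ.image e ⊆ g • W then 1 else 0 := by
      intro g
      have h3 : (U ∩ g • W).card ^ j = (Fintype.piFinset fun _ : Fin j => U ∩ g • W).card := by
        simp
      rw [← Finset.card_filter, h3]
      congr 1
      ext e
      simp [Fintype.mem_piFinset, Finset.image_subset_iff, forall_and]
    simp_rw [h1]
    rw [Finset.sum_comm]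
    refine Finset.sum_congr rfl fun e he => ?_
    rw [← Finset.card_filter]
    have hY : Finset.univ.image e ⊆ X := by
      intro a ha
      obtain ⟨l, -, rfl⟩ := Finset.mem_image.1 ha
      exact hU (Fintype.mem_piFinset.1 he l)
    exact hX.count hW hY (le_trans (Finset.card_image_le.trans (by simp)) hj)
  rw [key V hV, key V' hV', hc]

open Polynomial in
/-- Polynomial version of `Homog.pow_sum`. -/
theorem Homog.eval_sum {U V V' : Finset α} (hU : U ⊆ X) (hV : V ⊆ X) (hV' : V' ⊆ X)
    (hc : V.card = V'.card) {P : ℤ[X]} (hP : P.natDegree ≤ k) :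
    ∑ g : H, P.eval ((U ∩ g • V).card : ℤ) = ∑ g : H, P.eval ((U ∩ g • V').card : ℤ) := by
  simp only [Polynomial.eval_eq_sum_range]
  rw [Finset.sum_comm]
  conv_rhs => rw [Finset.sum_comm]
  refine Finset.sum_congr rfl fun j hj => ?_
  rw [← Finset.mul_sum, ← Finset.mul_sum]
  congr 1
  have := hX.pow_sum hU hV hV' hc (j := j) (le_trans (Nat.le_of_lt_succ (Finset.mem_range.1 hj)) hP)
  exact_mod_cast this

open Polynomial in
/-- The sum over the translates is proportional to the sum over all subsets. -/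
theorem Homog.eval_average {U V : Finset α} (hU : U ⊆ X) (hV : V ⊆ X)
    {P : ℤ[X]} (hP : P.natDegree ≤ k) :
    (X.card.choose V.card : ℤ) * ∑ g : H, P.eval ((U ∩ g • V).card : ℤ) =
      (Fintype.card H : ℤ) * ∑ W ∈ X.powersetCard V.card, P.eval ((U ∩ W).card : ℤ) := by
  have h1 : ∀ W ∈ X.powersetCard V.card,
      ∑ g : H, P.eval ((U ∩ g • W).card : ℤ) = ∑ g : H, P.eval ((U ∩ g • V).card : ℤ) :=
    fun W hW => hX.eval_sum hU (Finset.mem_powersetCard.1 hW).1 hV
      (Finset.mem_powersetCard.1 hW).2 hP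
  have h2 : ∀ g : H, ∑ W ∈ X.powersetCard V.card, P.eval ((U ∩ g • W).card : ℤ) =
      ∑ W ∈ X.powersetCard V.card, P.eval ((U ∩ W).card : ℤ) := by
    intro g
    refine Finset.sum_bij' (fun W _ => g • W) (fun W _ => g⁻¹ • W) ?_ ?_ ?_ ?_ ?_
    · intro W hW
      obtain ⟨a, b⟩ := Finset.mem_powersetCard.1 hW
      exact Finset.mem_powersetCard.2 ⟨hX.smul_subset a g, by rw [Finset.card_smul_finset, b]⟩
    · intro W hW
      obtain ⟨a, b⟩ := Finset.mem_powersetCard.1 hW
      exact Finset.mem_powersetCard.2 ⟨hX.smul_subset a _, by rw [Finset.card_smul_finset, b]⟩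
    · intro W _; exact inv_smul_smul _ _
    · intro W _; exact smul_inv_smul _ _
    · intro W _; rfl
  calc (X.card.choose V.card : ℤ) * ∑ g : H, P.eval ((U ∩ g • V).card : ℤ)
      = ∑ W ∈ X.powersetCard V.card, ∑ g : H, P.eval ((U ∩ g • W).card : ℤ) := by
        rw [Finset.sum_congr rfl h1, Finset.sum_const, Finset.card_powersetCard, nsmul_eq_mul]
    _ = ∑ g : H, ∑ W ∈ X.powersetCard V.card, P.eval ((U ∩ g • W).card : ℤ) := Finset.sum_comm
    _ = _ := by rw [Finset.sum_congr rfl (fun g _ => h2 g), Finset.sum_const, nsmul_eq_mul]; rfl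

omit hX

theorem card_powersetCard_inter {J : Finset α} (hJ : J ⊆ X) {t j : ℕ} (hj : j ≤ t) :
    ((X.powersetCard t).filter fun W => (J ∩ W).card = j).card =
      J.card.choose j * (X \ J).card.choose (t - j) := by
  rw [← Finset.card_powersetCard j J, ← Finset.card_powersetCard (t - j) (X \ J),
    ← Finset.card_product]
  refine Finset.card_bij' (fun W _ => (J ∩ W, W \ J)) (fun p _ => p.1 ∪ p.2) ?_ ?_ ?_ ?_
  · intro W hW
    obtain ⟨hW1, hW2⟩ := Finset.mem_filter.1 hW
    obtain ⟨hWX, hWt⟩ := Finset.mem_powersetCard.1 hW1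
    refine Finset.mem_product.2 ⟨Finset.mem_powersetCard.2 ⟨Finset.inter_subset_left, hW2⟩,
      Finset.mem_powersetCard.2 ⟨Finset.sdiff_subset_sdiff hWX (Finset.Subset.refl _), ?_⟩⟩
    dsimp only
    rw [Finset.card_sdiff, hWt, hW2]
  · intro p hp
    obtain ⟨h1, h2⟩ := Finset.mem_product.1 hp
    obtain ⟨h1, h1'⟩ := Finset.mem_powersetCard.1 h1
    obtain ⟨h2, h2'⟩ := Finset.mem_powersetCard.1 h2
    have hd : Disjoint p.1 p.2 := Finset.disjoint_left.2 fun a ha hb =>
      (Finset.mem_sdiff.1 (h2 hb)).2 (h1 ha)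
    refine Finset.mem_filter.2 ⟨Finset.mem_powersetCard.2 ⟨Finset.union_subset (h1.trans hJ)
      (h2.trans Finset.sdiff_subset), by rw [Finset.card_union_of_disjoint hd]; omega⟩, ?_⟩
    rw [← h1']; congr 1
    ext a
    constructor
    · intro ha
      rcases Finset.mem_union.1 (Finset.mem_inter.1 ha).2 with h | h
      · exact h
      · exact absurd (Finset.mem_inter.1 ha).1 (Finset.mem_sdiff.1 (h2 h)).2
    · exact fun ha => Finset.mem_inter.2 ⟨h1 ha, Finset.mem_union_left _ ha⟩
  · intro W _
    dsimp only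
    ext a
    by_cases ha : a ∈ J <;> simp [ha]
  · intro p hp
    obtain ⟨h1, h2⟩ := Finset.mem_product.1 hp
    obtain ⟨h1, h1'⟩ := Finset.mem_powersetCard.1 h1
    obtain ⟨h2, h2'⟩ := Finset.mem_powersetCard.1 h2
    refine Prod.ext ?_ ?_ <;> ext a <;>
      have := @h1 a <;> have := fun h => Finset.mem_sdiff.1 (@h2 a h) <;>
      simp only [Finset.mem_inter, Finset.mem_union, Finset.mem_sdiff] <;> tauto

theorem choose_two_pow_le {d m j : ℕ} (h : 2 * d ≤ m) :
    d.choose j * 2 ^ j ≤ m.choose j := by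
  induction j generalizing d m with
  | zero => simp
  | succ j ih =>
    rcases d with _ | d
    · simp
    rcases m with _ | m
    · omega
    have h1 := ih (d := d) (m := m) (by omega)
    have e1 := Nat.add_one_mul_choose_eq d j
    have e2 := Nat.add_one_mul_choose_eq m j
    refine Nat.le_of_mul_le_mul_right (c := j + 1) ?_ (by omega)
    calc (d + 1).choose (j + 1) * 2 ^ (j + 1) * (j + 1)
        = (d + 1).choose (j + 1) * (j + 1) * 2 ^ (j + 1) := by ring
      _ = (2 * (d + 1)) * (d.choose j * 2 ^ j) := by rw [← e1]; ring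
      _ ≤ (m + 1) * m.choose j := Nat.mul_le_mul (by omega) h1
      _ = (m + 1).choose (j + 1) * (j + 1) := e2

theorem choose_two_pow_lt {d m j : ℕ} (h : 2 * d < m) (hj : 1 ≤ j) (hjm : j ≤ m) :
    d.choose j * 2 ^ j < m.choose j := by
  obtain ⟨j, rfl⟩ : ∃ j', j = j' + 1 := ⟨j - 1, by omega⟩
  obtain ⟨m, rfl⟩ : ∃ m', m = m' + 1 := ⟨m - 1, by omega⟩
  have h1 := choose_two_pow_le (d := d) (m := m) (j := j + 1) (by omega)
  have h2 : 0 < m.choose j := Nat.choose_pos (by omega)
  rw [Nat.choose_succ_succ]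
  simp only [Nat.succ_eq_add_one]
  omega

theorem choose_term_le {δ ι t j : ℕ} (hjt : j ≤ t) (h : 2 * δ + (t - j) ≤ ι) :
    δ.choose j * ι.choose (t - j) * 2 ^ j ≤ t.choose j * ι.choose t := by
  have e := Nat.choose_mul (n := ι) (k := t) (s := t - j) (Nat.sub_le t j)
  rw [show t - (t - j) = j by omega, Nat.choose_symm hjt] at e
  calc δ.choose j * ι.choose (t - j) * 2 ^ j = ι.choose (t - j) * (δ.choose j * 2 ^ j) := by ring
    _ ≤ ι.choose (t - j) * (ι - (t - j)).choose j :=
        Nat.mul_le_mul_left _ (choose_two_pow_le (by omega))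
    _ = t.choose j * ι.choose t := by rw [← e]; ring

theorem choose_term_lt {δ ι t j : ℕ} (hjt : j ≤ t) (hj : 1 ≤ j) (hι : t ≤ ι)
    (h : 2 * δ + (t - j) < ι) :
    δ.choose j * ι.choose (t - j) * 2 ^ j < t.choose j * ι.choose t := by
  have e := Nat.choose_mul (n := ι) (k := t) (s := t - j) (Nat.sub_le t j)
  rw [show t - (t - j) = j by omega, Nat.choose_symm hjt] at e
  calc δ.choose j * ι.choose (t - j) * 2 ^ j = ι.choose (t - j) * (δ.choose j * 2 ^ j) := by ring
    _ < ι.choose (t - j) * (ι - (t - j)).choose j :=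
        Nat.mul_lt_mul_of_pos_left (choose_two_pow_lt (by omega) hj (by omega))
          (Nat.choose_pos (by omega))
    _ = t.choose j * ι.choose t := by rw [← e]; ring

theorem prod_sub_eq_descFactorial (n r : ℕ) :
    ∏ l ∈ Finset.range n, (((n + r : ℕ) : ℤ) - l) = ((n + r).descFactorial n : ℤ) := by
  induction n with
  | zero => simp
  | succ n ih =>
    rw [Finset.prod_range_succ', show n + 1 + r = (n + r) + 1 by omega,
      Nat.succ_descFactorial_succ]
    push_cast
    rw [← ih]
    push_cast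
    simp only [sub_zero]
    rw [mul_comm]
    congr 1
    refine Finset.prod_congr rfl fun l _ => ?_
    ring

open Polynomial in
/-- The sieve polynomial. -/
def sieve (n : ℕ) : ℤ[X] := ∏ l ∈ Finset.range n, (Polynomial.X - C ((l : ℤ) + 1))

open Polynomial in
theorem sieve_natDegree (n : ℕ) : (sieve n).natDegree ≤ n := by
  refine (natDegree_prod_le _ _).trans ?_
  refine (Finset.sum_le_card_nsmul _ _ 1 fun l _ => ?_).trans (by simp)
  exact natDegree_X_sub_C_le _

theorem sieve_eval_zero (n : ℕ) : (sieve n).eval 0 = (-1) ^ n * (n.factorial : ℤ) := by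
  induction n with
  | zero => simp [sieve]
  | succ n ih =>
    have : sieve (n + 1) = sieve n * (Polynomial.X - Polynomial.C ((n : ℤ) + 1)) := by
      simp [sieve, Finset.prod_range_succ]
    rw [this, Polynomial.eval_mul, ih, Nat.factorial_succ]
    simp [pow_succ]
    ring

theorem sieve_eval_root {n h : ℕ} (h1 : 1 ≤ h) (h2 : h ≤ n) : (sieve n).eval (h : ℤ) = 0 := by
  rw [sieve, Polynomial.eval_prod]
  refine Finset.prod_eq_zero (i := h - 1) (Finset.mem_range.2 (by omega)) ?_
  simp [Nat.cast_sub h1]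

theorem sieve_eval_above (n r : ℕ) :
    (sieve n).eval ((n + r + 1 : ℕ) : ℤ) = ((n + r).descFactorial n : ℤ) := by
  rw [sieve, Polynomial.eval_prod, ← prod_sub_eq_descFactorial]
  refine Finset.prod_congr rfl fun l _ => ?_
  simp

theorem descFactorial_succ_self (n : ℕ) : (n + 1).descFactorial n = (n + 1).factorial := by
  have := Nat.factorial_mul_descFactorial (n := n + 1) (k := n) (by omega)
  simpa using this

theorem three_mul_le_two_pow {t : ℕ} (ht : 3 ≤ t) : 3 * t ≤ 2 ^ t + 1 := by
  induction t, ht using Nat.le_induction with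
  | base => norm_num
  | succ t ht ih => rw [pow_succ]; omega

open Polynomial in
/-- The polynomial used for covering. -/
theorem exists_cover_poly {t δ ι : ℕ} (ht : 3 ≤ t) (hι : t ≤ ι) (h : 2 * δ + 2 ≤ ι) :
    ∃ P : ℤ[X], P.natDegree ≤ t - 2 ∧ (∀ j, 1 ≤ j → j ≤ t → P.eval (j : ℤ) ≤ 0) ∧
      0 < ∑ j ∈ Finset.range (t + 1),
        P.eval (j : ℤ) * ((δ.choose j * ι.choose (t - j) : ℕ) : ℤ) := by
  have hC : 0 < ι.choose t := Nat.choose_pos hι
  rcases Nat.even_or_odd t with he | ho
  · obtain ⟨m, hm⟩ := he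
    obtain ⟨n, rfl⟩ : ∃ n, t = n + 3 := ⟨t - 3, by omega⟩
    have hn : Odd n := ⟨m - 2, by omega⟩
    have v0 : (sieve n * (X - C ((n + 3 : ℕ) : ℤ))).eval 0 = (n.factorial : ℤ) * (n + 3) := by
      simp [sieve_eval_zero, hn.neg_one_pow]
      ring
    have v1 : (sieve n * (X - C ((n + 3 : ℕ) : ℤ))).eval ((n + 1 : ℕ) : ℤ)
        = -2 * (n.factorial : ℤ) := by
      rw [eval_mul, sieve_eval_above n 0]
      simp [Nat.descFactorial_self]
      ring
    have v2 : (sieve n * (X - C ((n + 3 : ℕ) : ℤ))).eval ((n + 2 : ℕ) : ℤ)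
        = -(((n + 1).factorial : ℕ) : ℤ) := by
      rw [eval_mul, sieve_eval_above n 1, descFactorial_succ_self]
      simp
    have v3 : (sieve n * (X - C ((n + 3 : ℕ) : ℤ))).eval ((n + 3 : ℕ) : ℤ) = 0 := by simp
    refine ⟨sieve n * (X - C ((n + 3 : ℕ) : ℤ)), ?_, ?_, ?_⟩
    · refine natDegree_mul_le.trans ?_
      have := sieve_natDegree n
      have := natDegree_X_sub_C_le ((n + 3 : ℕ) : ℤ)
      omega
    · intro j hj1 hj2
      rcases (show j ≤ n ∨ j = n + 1 ∨ j = n + 2 ∨ j = n + 3 by omega) with hj | rfl | rfl | rfl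
      · simp [sieve_eval_root hj1 hj]
      · rw [v1]; linarith [Int.natCast_nonneg n.factorial]
      · rw [v2]; linarith [Int.natCast_nonneg (n + 1).factorial]
      · rw [v3]
    · rw [show n + 3 + 1 = (n + 1) + 3 by omega]
      rw [Finset.sum_range_succ, Finset.sum_range_succ, Finset.sum_range_succ,
        Finset.sum_range_succ']
      rw [Finset.sum_eq_zero (fun j hj => by
        rw [eval_mul, sieve_eval_root (n := n) (h := j + 1) (by omega)
          (by have := Finset.mem_range.1 hj; omega)]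
        simp)]
      rw [show ((0 : ℕ) : ℤ) = 0 from rfl, show n + 1 + 1 = n + 2 from rfl,
        show n + 1 + 2 = n + 3 from rfl, v0, v1, v2, v3,
        show n + 3 - (n + 1) = 2 by omega, show n + 3 - (n + 2) = 1 by omega]
      simp only [Nat.choose_zero_right, Nat.sub_zero, Nat.choose_one_right, zero_mul, add_zero,
        zero_add, one_mul]
      have a1 := choose_term_le (δ := δ) (ι := ι) (t := n + 3) (j := n + 1) (by omega) (by omega)
      have a2 := choose_term_lt (δ := δ) (ι := ι) (t := n + 3) (j := n + 2) (by omega) (by omega)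
        hι (by omega)
      rw [show n + 3 - (n + 1) = 2 by omega] at a1
      rw [show n + 3 - (n + 2) = 1 by omega, Nat.choose_one_right] at a2
      have c1 : 2 * (n + 3).choose (n + 1) = (n + 3) * (n + 2) := by
        have e := Nat.choose_symm (n := n + 3) (k := 2) (by omega)
        rw [show n + 3 - 2 = n + 1 by omega] at e
        rw [e, Nat.choose_two_right]
        have h2 : 2 ∣ (n + 3) * (n + 3 - 1) := (Nat.even_mul_pred_self _).two_dvd
        rw [Nat.mul_div_cancel' h2]
        simp
      have c2 : (n + 3).choose (n + 2) = n + 3 := by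
        simpa using Nat.choose_symm (n := n + 3) (k := 1) (by omega)
      have hp := three_mul_le_two_pow (t := n + 2) (by
        obtain ⟨q, hq⟩ := hn; omega)
      rw [c2] at a2
      have key : 2 * (δ.choose (n + 1) * ι.choose 2) + (n + 1) * (δ.choose (n + 2) * ι)
          < (n + 3) * ι.choose (n + 3) := by
        refine Nat.lt_of_mul_lt_mul_right (a := 2 ^ (n + 2)) ?_
        rw [show (2 * (δ.choose (n + 1) * ι.choose 2) + (n + 1) * (δ.choose (n + 2) * ι)) * 2 ^ (n + 2)
            = 4 * (δ.choose (n + 1) * ι.choose 2 * 2 ^ (n + 1))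
              + (n + 1) * (δ.choose (n + 2) * ι * 2 ^ (n + 2)) by ring]
        have b1 : 4 * (δ.choose (n + 1) * ι.choose 2 * 2 ^ (n + 1))
            ≤ 2 * ((n + 3) * (n + 2)) * ι.choose (n + 3) := by
          rw [← c1]; linarith
        have b2 : (n + 1) * (δ.choose (n + 2) * ι * 2 ^ (n + 2))
            < (n + 1) * ((n + 3) * ι.choose (n + 3)) :=
          Nat.mul_lt_mul_of_pos_left a2 (by omega)
        have b3 : (n + 3) * ι.choose (n + 3) * (3 * n + 5)
            ≤ (n + 3) * ι.choose (n + 3) * 2 ^ (n + 2) :=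
          Nat.mul_le_mul_left _ (by omega)
        nlinarith
      have key' : ((2 * (δ.choose (n + 1) * ι.choose 2) + (n + 1) * (δ.choose (n + 2) * ι) : ℕ) : ℤ)
          < (((n + 3) * ι.choose (n + 3) : ℕ) : ℤ) := by exact_mod_cast key
      have hf : (0 : ℤ) < (n.factorial : ℤ) := by exact_mod_cast n.factorial_pos
      have := mul_lt_mul_of_pos_left key' hf
      rw [Nat.factorial_succ]
      push_cast at this ⊢
      linarith
  · obtain ⟨n, rfl⟩ : ∃ n, t = n + 2 := ⟨t - 2, by omega⟩
    have hn : Odd n := by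
      obtain ⟨q, hq⟩ := ho; exact ⟨q - 1, by omega⟩
    have v0 : (-sieve n).eval 0 = (n.factorial : ℤ) := by
      simp [sieve_eval_zero, hn.neg_one_pow]
    have v1 : (-sieve n).eval ((n + 1 : ℕ) : ℤ) = -(n.factorial : ℤ) := by
      rw [eval_neg, sieve_eval_above n 0]
      simp [Nat.descFactorial_self]
    have v2 : (-sieve n).eval ((n + 2 : ℕ) : ℤ) = -(((n + 1).factorial : ℕ) : ℤ) := by
      rw [eval_neg, sieve_eval_above n 1, descFactorial_succ_self]
    refine ⟨-sieve n, ?_, ?_, ?_⟩
    · rw [natDegree_neg]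
      have := sieve_natDegree n
      omega
    · intro j hj1 hj2
      rcases (show j ≤ n ∨ j = n + 1 ∨ j = n + 2 by omega) with hj | rfl | rfl
      · simp [sieve_eval_root hj1 hj]
      · rw [v1]; linarith [Int.natCast_nonneg n.factorial]
      · rw [v2]; linarith [Int.natCast_nonneg (n + 1).factorial]
    · rw [Finset.sum_range_succ, Finset.sum_range_succ, Finset.sum_range_succ']
      rw [Finset.sum_eq_zero (fun j hj => by
        rw [eval_neg, sieve_eval_root (n := n) (h := j + 1) (by omega)
          (by have := Finset.mem_range.1 hj; omega)]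
        simp)]
      rw [show ((0 : ℕ) : ℤ) = 0 from rfl, v0, v1, v2,
        show n + 2 - (n + 1) = 1 by omega, Nat.sub_self]
      simp only [Nat.choose_zero_right, Nat.sub_zero, Nat.choose_one_right, zero_add, mul_one,
        one_mul]
      have a1 := choose_term_lt (δ := δ) (ι := ι) (t := n + 2) (j := n + 1) (by omega) (by omega)
        hι (by omega)
      have a2 := choose_term_le (δ := δ) (ι := ι) (t := n + 2) (j := n + 2) (by omega) (by omega)
      rw [show n + 2 - (n + 1) = 1 by omega, Nat.choose_one_right] at a1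
      rw [Nat.sub_self, Nat.choose_zero_right, mul_one, Nat.choose_self, one_mul] at a2
      have c1 : (n + 2).choose (n + 1) = n + 2 := by
        simpa using Nat.choose_symm (n := n + 2) (k := 1) (by omega)
      rw [c1] at a1
      have hp := three_mul_le_two_pow (t := n + 2) ht
      have key : δ.choose (n + 1) * ι + (n + 1) * δ.choose (n + 2) < ι.choose (n + 2) := by
        refine Nat.lt_of_mul_lt_mul_right (a := 2 ^ (n + 2)) ?_
        rw [show (δ.choose (n + 1) * ι + (n + 1) * δ.choose (n + 2)) * 2 ^ (n + 2)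
          = 2 * (δ.choose (n + 1) * ι * 2 ^ (n + 1))
            + (n + 1) * (δ.choose (n + 2) * 2 ^ (n + 2)) by ring]
        have b2 : (n + 1) * (δ.choose (n + 2) * 2 ^ (n + 2)) ≤ (n + 1) * ι.choose (n + 2) :=
          Nat.mul_le_mul_left _ a2
        have b3 : ι.choose (n + 2) * (3 * n + 5) ≤ ι.choose (n + 2) * 2 ^ (n + 2) :=
          Nat.mul_le_mul_left _ (by omega)
        nlinarith
      have key' : ((δ.choose (n + 1) * ι + (n + 1) * δ.choose (n + 2) : ℕ) : ℤ)
          < ((ι.choose (n + 2) : ℕ) : ℤ) := by exact_mod_cast key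
      have hf : (0 : ℤ) < (n.factorial : ℤ) := by exact_mod_cast n.factorial_pos
      have := mul_lt_mul_of_pos_left key' hf
      rw [Nat.factorial_succ]
      push_cast at this ⊢
      linarith

/-- An invariant family of large sets has a member containing the prescribed `t`-set. -/
theorem exists_disjoint_smul {t : ℕ} {A J : Finset α} (ht : 3 ≤ t) (hX : Homog H X (t - 2))
    (hA : A ⊆ X) (hAt : A.card = t) (hJ : J ⊆ X) (hι : t ≤ (X \ J).card)
    (h : 2 * J.card + 2 ≤ (X \ J).card) :
    ∃ g : H, Disjoint J (g • A) := by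
  by_contra hcon
  push Not at hcon
  obtain ⟨P, hdeg, hneg, hpos⟩ := exists_cover_poly ht hι h
  have e := hX.eval_average hJ hA hdeg
  rw [hAt] at e
  have hle : ∑ g : H, P.eval ((J ∩ g • A).card : ℤ) ≤ 0 := by
    refine Finset.sum_nonpos fun g _ => hneg _ ?_ ?_
    · rw [Nat.one_le_iff_ne_zero, Ne, Finset.card_eq_zero, ← Finset.disjoint_iff_inter_eq_empty]
      exact hcon g
    · exact (Finset.card_le_card Finset.inter_subset_right).trans
        (by rw [Finset.card_smul_finset, hAt])
  have hsum : ∑ W ∈ X.powersetCard t, P.eval ((J ∩ W).card : ℤ) =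
      ∑ j ∈ Finset.range (t + 1),
        P.eval (j : ℤ) * ((J.card.choose j * (X \ J).card.choose (t - j) : ℕ) : ℤ) := by
    rw [← Finset.sum_fiberwise_of_maps_to (t := Finset.range (t + 1))
      (g := fun W => (J ∩ W).card) (fun W hW => Finset.mem_range.2 (Nat.lt_succ_of_le
        ((Finset.card_le_card Finset.inter_subset_right).trans
          (le_of_eq (Finset.mem_powersetCard.1 hW).2))))]
    refine Finset.sum_congr rfl fun j hj => ?_
    rw [Finset.sum_congr rfl (fun W hW => by rw [(Finset.mem_filter.1 hW).2]),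
      Finset.sum_const, card_powersetCard_inter hJ (Nat.le_of_lt_succ (Finset.mem_range.1 hj)),
      nsmul_eq_mul, mul_comm]
  rw [hsum] at e
  have h1 : (0 : ℤ) < Fintype.card H := by exact_mod_cast Fintype.card_pos
  have h2 := mul_pos h1 hpos
  rw [← e] at h2
  have h3 : (X.card.choose t : ℤ) * ∑ g : H, P.eval ((J ∩ g • A).card : ℤ) ≤ 0 :=
    mul_nonpos_of_nonneg_of_nonpos (Int.natCast_nonneg _) hle
  linarith

end

end Cfsg.Agent.PronHalf
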