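import Cfsg.Agent.Lib.PronormalHalf.Level
import Cfsg.Agent.Lib.PronormalHalf.Count

/-!
The step to higher transitivity when exactly three translates of `F` pass through a largest
intersection.
-/

set_option autoImplicit false
set_option linter.unusedSectionVars false

open scoped Pointwise
open MulAction

namespace Cfsg.Agent.PronHalf

universe u v

noncomputable section

attribute [local instance] Classical.propDecidable

/-- A relation invariant under a group transitive on a finite set is regular with equal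
in- and out-degrees. -/
theorem regular_rel {G α : Type*} [Group G] [MulAction G α] [DecidableEq α] {X : Finset α}
    {R : α → α → Prop} {N : Subgroup G} (htr : ∀ a ∈ X, ∀ b ∈ X, ∃ u ∈ N, u • a = b)
    (hX : ∀ u ∈ N, ∀ a ∈ X, u • a ∈ X)
    (hR : ∀ u ∈ N, ∀ a ∈ X, ∀ b ∈ X, R a b → R (u • a) (u • b))
    (hne : X.Nonempty) :
    ∃ P : ℕ, (∀ z ∈ X, ((X.erase z).filter fun x => R z x).card = P) ∧
      ∀ x ∈ X, ((X.erase x).filter fun z => R z x).card = P := by
  obtain ⟨z0, hz0⟩ := hne
  have hout : ∀ a ∈ X, ∀ b ∈ X, ((X.erase a).filter fun x => R a x).card ≤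
      ((X.erase b).filter fun x => R b x).card := by
    intro a ha b hb
    obtain ⟨u, hu, rfl⟩ := htr a ha b hb
    refine Finset.card_le_card_of_injOn (fun x => u • x) (fun x hx => ?_)
      (fun _ _ _ _ e => MulAction.injective u e)
    obtain ⟨hx1, hx2⟩ := Finset.mem_filter.1 hx
    obtain ⟨hne', hxX⟩ := Finset.mem_erase.1 hx1
    exact Finset.mem_filter.2 ⟨Finset.mem_erase.2 ⟨fun e => hne' (MulAction.injective u e),
      hX u hu x hxX⟩, hR u hu a ha x hxX hx2⟩
  have hin : ∀ a ∈ X, ∀ b ∈ X, ((X.erase a).filter fun x => R x a).card ≤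
      ((X.erase b).filter fun x => R x b).card := by
    intro a ha b hb
    obtain ⟨u, hu, rfl⟩ := htr a ha b hb
    refine Finset.card_le_card_of_injOn (fun x => u • x) (fun x hx => ?_)
      (fun _ _ _ _ e => MulAction.injective u e)
    obtain ⟨hx1, hx2⟩ := Finset.mem_filter.1 hx
    obtain ⟨hne', hxX⟩ := Finset.mem_erase.1 hx1
    exact Finset.mem_filter.2 ⟨Finset.mem_erase.2 ⟨fun e => hne' (MulAction.injective u e),
      hX u hu x hxX⟩, hR u hu x hxX a ha hx2⟩
  set P := ((X.erase z0).filter fun x => R z0 x).card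
  set P' := ((X.erase z0).filter fun x => R x z0).card
  have h1 : ∀ z ∈ X, ((X.erase z).filter fun x => R z x).card = P :=
    fun z hz => le_antisymm (hout z hz z0 hz0) (hout z0 hz0 z hz)
  have h2 : ∀ x ∈ X, ((X.erase x).filter fun z => R z x).card = P' :=
    fun x hx => le_antisymm (hin x hx z0 hz0) (hin z0 hz0 x hx)
  have h3 : ∑ z ∈ X, ((X.erase z).filter fun x => R z x).card =
      ∑ x ∈ X, ((X.erase x).filter fun z => R z x).card := by
    simp only [Finset.card_filter, ← Finset.filter_ne', Finset.sum_filter]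
    rw [Finset.sum_comm]
    refine Finset.sum_congr rfl fun a _ => Finset.sum_congr rfl fun b _ => ?_
    by_cases e : a = b <;> simp [e, eq_comm]
  rw [Finset.sum_const_nat h1, Finset.sum_const_nat h2] at h3
  have h4 : P = P' := Nat.eq_of_mul_eq_mul_left (Finset.card_pos.2 ⟨z0, hz0⟩) h3
  exact ⟨P, h1, fun x hx => (h2 x hx).trans h4.symm⟩

variable {G : Type u} [Group G] [Finite G] {α : Type v} [Fintype α] [DecidableEq α] [MulAction G α]

namespace Good

variable {F : Finset α} (hF : Good G F)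
include hF

/-- An orbit of size four outside `F` does not occur when the group is triply transitive. -/
theorem orb_card_ne_four (h : Upto G α 3) (hn : Fintype.card α = 2 * F.card) {c : α} (hc : c ∉ F) :
    (orb (fixingSubgroup G (F : Set α)) c).card ≠ 4 := by
  let _ : Fintype G := Fintype.ofFinite G
  intro h4
  set R := orb (fixingSubgroup G (F : Set α)) c with hR
  have hcompl : ∀ g : G, (R ∩ g • Fᶜ).card = 4 - (R ∩ g • F).card := by
    intro g
    have e : g • Fᶜ = (g • F)ᶜ := by
      ext a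
      simp [← Finset.inv_smul_mem_iff]
    have e2 : R ∩ (g • F)ᶜ = R \ (g • F) := by ext a; simp
    rw [e, e2, Finset.card_sdiff, Finset.inter_comm, h4]
  have hlt : ∀ g : G, (R ∩ g • F).card ≤ 3 := by
    intro g
    by_contra hh
    refine hF.orb_not_subset hc g ?_
    have : R ∩ g • F = R := Finset.eq_of_subset_of_card_le Finset.inter_subset_left (by omega)
    exact Finset.inter_eq_left.1 this
  have hpoly : ∀ j : ℕ, j ≤ 4 → (sieve 3).eval (((4 - j : ℕ) : ℤ)) = -(sieve 3).eval (j : ℤ) := by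
    intro j hj
    interval_cases j <;> norm_num [sieve, Finset.prod_range_succ]
  have hnp : ∀ g : G, (sieve 3).eval ((R ∩ g • F).card : ℤ) ≤ 0 := by
    intro g
    have := hlt g
    interval_cases hk : (R ∩ g • F).card <;> norm_num [sieve, Finset.prod_range_succ]
  have hsum := (h.homog).eval_sum (U := R) (V := F) (V' := Fᶜ) (Finset.subset_univ _)
    (Finset.subset_univ _) (Finset.subset_univ _) (by rw [Finset.card_compl, hn]; omega)
    (sieve_natDegree 3)
  rw [Finset.sum_congr rfl (fun g (_ : g ∈ (Finset.univ : Finset G)) => (by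
      rw [hcompl g, hpoly _ ((hlt g).trans (by norm_num))] :
      (sieve 3).eval ((R ∩ g • Fᶜ).card : ℤ) = -(sieve 3).eval ((R ∩ g • F).card : ℤ))),
    Finset.sum_neg_distrib] at hsum
  have h0 := (Finset.sum_eq_zero_iff_of_nonpos fun g _ => hnp g).1 (by linarith) 1
    (Finset.mem_univ _)
  have : R ∩ (1 : G) • F = ∅ := by
    rw [one_smul, ← Finset.disjoint_iff_inter_eq_empty]
    exact Finset.disjoint_left.2 fun a ha => Good.orb_disjoint hc ha
  rw [this, Finset.card_empty] at h0
  norm_num [sieve, Finset.prod_range_succ] at h0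

/-- An element fixing `E ⊆ F`, stabilizing `F` and an orbit of the pointwise stabilizer of `F`
may be corrected to fix a point of that orbit. -/
theorem inv_rel {E : Finset α} (hE : E ⊆ F) {c : α} {u : G} (huF : u • F = F)
    (huE : ∀ a ∈ E, u • a = a)
    (huR : u • orb (fixingSubgroup G (F : Set α)) c = orb (fixingSubgroup G (F : Set α)) c) :
    ∃ m ∈ fixingSubgroup G (E : Set α), m • c = c ∧ ∀ a ∈ F, m • a = u • a := by
  have h : u • c ∈ orb (fixingSubgroup G (F : Set α)) c :=
    huR ▸ Finset.smul_mem_smul_finset (self_mem_orb _ c)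
  obtain ⟨k, hk, hkc⟩ := mem_orb.1 h
  refine ⟨k⁻¹ * u, mem_fixing.2 fun a ha => ?_, by rw [mul_smul, ← hkc, inv_smul_smul], fun a ha => ?_⟩
  · rw [mul_smul, huE a ha, inv_smul_eq_iff, mem_fixing.1 hk a (hE ha)]
  · have h1 : u • a ∈ F := huF ▸ Finset.smul_mem_smul_finset ha
    rw [mul_smul, inv_smul_eq_iff, mem_fixing.1 hk _ h1]

/-- The step to higher transitivity when the largest intersection is less than two thirds. -/
theorem step_three (ih : Bound.{u, v} (Fintype.card α)) {t : ℕ} (h : Upto G α t) (ht : 3 ≤ t)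
    (htf : t < F.card) (hn : Fintype.card α = 2 * F.card) {g1 : G} (hg1 : g1 • F ≠ F)
    (hti : t ≤ (F ∩ g1 • F).card) (hpos : F.card < 2 * (F ∩ g1 • F).card)
    (htx : t + F.card ≤ 2 * (F ∩ g1 • F).card + 3)
    (hmax : ∀ g : G, g • F ≠ F → (F ∩ g • F).card ≤ (F ∩ g1 • F).card)
    (hsmall : F.card < 3 * (F.card - (F ∩ g1 • F).card)) :
    Upto G α (t + 1) := by
  set I := F ∩ g1 • F with hI
  set F1 := g1 • F with hF1
  have hIF : I ⊆ F := Finset.inter_subset_left
  have hIF1 : I ⊆ F1 := Finset.inter_subset_right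
  have hIlt : I.card < F.card := Good.inter_card_lt hg1
  set K := fixingSubgroup G (F : Set α) with hK
  obtain ⟨k0, hk0, hk0F1⟩ := hF.exists_move hg1
  have hk0F : k0 • F = F := smul_finset_eq_of_fix hk0
  set F2 := k0 • F1 with hF2
  have hKI : ∀ k ∈ K, k • I = I := fun k hk => smul_finset_eq_of_fix (fixing_mono hIF hk)
  have hIF2 : I ⊆ F2 := by
    rw [hF2, ← hKI k0 hk0]; exact Finset.smul_finset_subset_smul_finset hIF1
  have hF2F : F2 ≠ F := fun e => hg1 ((smul_left_cancel_iff k0).1 (e.trans hk0F.symm))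
  have hF2eq : F2 = (k0 * g1) • F := (mul_smul _ _ _).symm
  have hmeet : F ∩ F2 = I ∧ F1 ∩ F2 = I := by
    have a := hF.meet_eq (g1 := g1) (g := 1) (g' := k0 * g1) hmax (by rw [one_smul]; exact hIF)
      (hF2eq ▸ hIF2) (by rw [one_smul, ← hF2eq]; exact hF2F.symm)
    have b := hF.meet_eq (g1 := g1) (g := g1) (g' := k0 * g1) hmax hIF1
      (hF2eq ▸ hIF2) (by rw [← hF2eq]; exact hk0F1.symm)
    rw [one_smul, ← hF2eq] at a
    rw [← hF2eq] at b
    exact ⟨a, b⟩
  have hcF1 : F1.card = F.card := Finset.card_smul_finset _ _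
  have hcF2 : F2.card = F.card := by rw [hF2, Finset.card_smul_finset, hcF1]
  have hdU : Disjoint (F1 \ I) (F2 \ I) := Finset.disjoint_left.2 fun a ha hb => by
    have h1 : a ∈ F1 ∩ F2 := Finset.mem_inter.2 ⟨(Finset.mem_sdiff.1 ha).1, (Finset.mem_sdiff.1 hb).1⟩
    rw [hmeet.2] at h1
    exact (Finset.mem_sdiff.1 ha).2 h1
  set U := (F1 \ I) ∪ (F2 \ I) with hU
  have hUout : U ⊆ Fᶜ := by
    intro a ha
    refine Finset.mem_compl.2 fun haF => ?_
    rcases Finset.mem_union.1 ha with ha | ha <;> obtain ⟨h1, h2⟩ := Finset.mem_sdiff.1 ha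
    · exact h2 (Finset.mem_inter.2 ⟨haF, h1⟩)
    · exact h2 (hmeet.1 ▸ Finset.mem_inter.2 ⟨haF, h1⟩)
  have hUc : U.card = 2 * (F.card - I.card) := by
    rw [hU, Finset.card_union_of_disjoint hdU, Finset.card_sdiff_of_subset hIF1,
      Finset.card_sdiff_of_subset hIF2, hcF1, hcF2]
    omega
  have hthree : ∀ g : G, I ⊆ g • F → g • F = F ∨ g • F = F1 ∨ g • F = F2 := by
    intro g hg
    by_contra hno
    rw [not_or, not_or] at hno
    obtain ⟨h0, h1, h2⟩ := hno
    have m0 : F ∩ g • F = I := by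
      simpa using hF.meet_eq (g1 := g1) (g := 1) (g' := g) hmax (by rw [one_smul]; exact hIF) hg
        (by rw [one_smul]; exact Ne.symm h0)
    have m1 : F1 ∩ g • F = I :=
      hF.meet_eq (g1 := g1) (g := g1) (g' := g) hmax hIF1 hg (Ne.symm h1)
    have m2 : F2 ∩ g • F = I := by
      rw [hF2eq]
      exact hF.meet_eq (g1 := g1) (g := k0 * g1) (g' := g) hmax (hF2eq ▸ hIF2) hg
        (by rw [← hF2eq]; exact Ne.symm h2)
    have hd3 : Disjoint U (g • F \ I) := Finset.disjoint_left.2 fun a ha hb => by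
      obtain ⟨b1, b2⟩ := Finset.mem_sdiff.1 hb
      rcases Finset.mem_union.1 ha with ha | ha
      · exact b2 (m1 ▸ Finset.mem_inter.2 ⟨(Finset.mem_sdiff.1 ha).1, b1⟩)
      · exact b2 (m2 ▸ Finset.mem_inter.2 ⟨(Finset.mem_sdiff.1 ha).1, b1⟩)
    have hsub : U ∪ (g • F \ I) ⊆ Fᶜ := Finset.union_subset hUout fun a ha => by
      obtain ⟨b1, b2⟩ := Finset.mem_sdiff.1 ha
      exact Finset.mem_compl.2 fun haF => b2 (m0 ▸ Finset.mem_inter.2 ⟨haF, b1⟩)
    have := Finset.card_le_card hsub
    rw [Finset.card_union_of_disjoint hd3, hUc, Finset.card_sdiff_of_subset hg,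
      Finset.card_smul_finset, Finset.card_compl, hn] at this
    omega
  have hKswap : k0 • F2 = F1 := by
    have hsub : I ⊆ (k0 * (k0 * g1)) • F := by
      rw [mul_smul, ← hF2eq, ← hKI k0 hk0]; exact Finset.smul_finset_subset_smul_finset hIF2
    rcases hthree _ hsub with e | e | e <;> rw [mul_smul, ← hF2eq] at e
    · exact absurd ((smul_left_cancel_iff k0).1 (e.trans hk0F.symm)) hF2F
    · exact e
    · exact absurd ((smul_left_cancel_iff k0).1 (e.trans hF2)) hk0F1
  have hKU : ∀ k ∈ K, ∀ a ∈ U, k • a ∈ U := by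
    intro k hk a ha
    have hki := hKI k hk
    have hkF : k • F = F := smul_finset_eq_of_fix hk
    have cases_ : ∀ (g : G), I ⊆ g • F → g • F ≠ F → a ∈ g • F \ I → k • a ∈ U := by
      intro g hg hgF ha'
      have h1 : k • a ∈ (k * g) • F \ I := by
        rw [mul_smul, ← hki, ← Finset.smul_finset_sdiff]
        exact Finset.smul_mem_smul_finset ha'
      rcases hthree (k * g) (by rw [mul_smul, ← hki]; exact Finset.smul_finset_subset_smul_finset hg)
        with e | e | e
      · rw [mul_smul] at e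
        exact absurd ((smul_left_cancel_iff k).1 (e.trans hkF.symm)) hgF
      · rw [e] at h1; exact Finset.mem_union_left _ h1
      · rw [e] at h1; exact Finset.mem_union_right _ h1
    rcases Finset.mem_union.1 ha with ha | ha
    · exact cases_ g1 hIF1 hg1 ha
    · exact cases_ (k0 * g1) (hF2eq ▸ hIF2) (hF2eq ▸ hF2F) (hF2eq ▸ ha)
  -- an element exchanging `F` and `F1`
  obtain ⟨g, hgI, hgF, hgF1⟩ : ∃ g ∈ fixingSubgroup G (I : Set α), g • F = F1 ∧ g • F1 = F := by
    obtain ⟨w, hw, hwF⟩ := hF.ext (g := g1) (E := I) hIF hIF1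
    have hwI : w • I = I := smul_finset_eq_of_fix hw
    rcases hthree (w * g1) (by rw [mul_smul, ← hwI]; exact Finset.smul_finset_subset_smul_finset hIF1)
      with e | e | e <;> rw [mul_smul, ← hF1] at e
    · exact ⟨w, hw, hwF, e⟩
    · exact absurd ((smul_left_cancel_iff w).1 (e.trans hwF.symm)) hg1
    · set s := w * k0 * w⁻¹ with hs
      have hs1 : s • F1 = F1 := by
        rw [hF1, ← hwF, hs, mul_smul, mul_smul, inv_smul_smul, hk0F]
      have hsI : s ∈ fixingSubgroup G (I : Set α) :=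
        Subgroup.mul_mem _ (Subgroup.mul_mem _ hw (fixing_mono hIF hk0)) (Subgroup.inv_mem _ hw)
      have hsF2 : s • F2 ≠ F2 := by
        rw [← e, hs, mul_smul, mul_smul, inv_smul_smul]
        exact fun e' => hk0F1 ((smul_left_cancel_iff w).1 e')
      refine ⟨s * w, Subgroup.mul_mem _ hsI hw, by rw [mul_smul, hwF, ← hF1, hs1], ?_⟩
      rw [mul_smul, e]
      have hsIeq : s • I = I := smul_finset_eq_of_fix hsI
      rcases hthree (s * (k0 * g1)) (by
          rw [mul_smul, ← hF2eq, ← hsIeq]; exact Finset.smul_finset_subset_smul_finset hIF2)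
        with e2 | e2 | e2 <;> rw [mul_smul, ← hF2eq] at e2
      · exact e2
      · exact absurd ((smul_left_cancel_iff s).1 (e2.trans hs1.symm)) hk0F1
      · exact absurd e2 hsF2
  refine h.succ htf.le ?_
  intro A hA hAc
  obtain ⟨A', hA', hA'c⟩ := Finset.exists_subset_card_eq hti
  obtain ⟨u, huF, hu⟩ := hF.stab_map h (ι := A) (a := fun l => (l : α))
    (b := fun l => ((Finset.equivOfCardEq (hAc.trans hA'c.symm) l : A') : α))
    (by simp [hAc]) Subtype.val_injective (Subtype.val_injective.comp (Equiv.injective _))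
    (fun l => hA l.2) (fun l => hIF (hA' (Subtype.coe_prop _)))
  have huA : u • A = A' := by
    refine Finset.eq_of_subset_of_card_le (fun z hz => ?_)
      (by rw [Finset.card_smul_finset, hAc, hA'c])
    obtain ⟨a, ha, rfl⟩ := Finset.mem_smul_finset.1 hz
    rw [hu ⟨a, ha⟩]; exact Subtype.coe_prop _
  refine fun x y hx hy => hF.all_one_orbit ih h ht htf hn hA hAc (g := u⁻¹ * g1) ?_ ?_ ?_ hx hy
  · intro z hz
    rw [mul_smul, Finset.mem_inv_smul_finset_iff, hu ⟨z, hz⟩]
    exact hIF1 (hA' (Subtype.coe_prop _))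
  · intro e
    rw [mul_smul, inv_smul_eq_iff, huF] at e
    exact hg1 e
  intro p hp q hq
  suffices key : ∀ p ∈ F \ A', ∀ q ∈ F \ A', q ∈ orb (fixingSubgroup G (A' : Set α)) p by
    have mov : ∀ r ∈ F \ A, u • r ∈ F \ A' := fun r hr => by
      rw [← huA]
      conv => arg 1; rw [← huF]
      rw [← Finset.smul_finset_sdiff]
      exact Finset.smul_mem_smul_finset hr
    obtain ⟨k, hk, hkq⟩ := mem_orb.1 (key _ (mov p hp) _ (mov q hq))
    refine mem_orb.2 ⟨u⁻¹ * k * u, ?_, by rw [mul_smul, mul_smul, hkq, inv_smul_smul]⟩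
    have := conj_mem_fixing (g := u⁻¹) hk
    rwa [← huA, inv_smul_smul, inv_inv] at this
  clear hp hq p q x y hx hy
  intro x0 hx0 q hq
  -- the prefix and the relation
  obtain ⟨E, hEA, hEc⟩ := Finset.exists_subset_card_eq (show t - 2 ≤ A'.card by omega)
  obtain ⟨z1, z2, hz12, hzs⟩ := Finset.card_eq_two.1 (show (A' \ E).card = 2 by
    rw [Finset.card_sdiff_of_subset hEA, hEc, hA'c]; omega)
  have hz1 : z1 ∈ A' \ E := by simp [hzs]
  have hz2 : z2 ∈ A' \ E := by simp [hzs]
  have hEI : E ⊆ I := hEA.trans hA'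
  have hEF : E ⊆ F := hEI.trans hIF
  set M := fixingSubgroup G (E : Set α) with hM
  set Γ : α → α → α → Prop := fun z x w => ∃ γ ∈ M, γ • z1 = z ∧ γ • z2 = x ∧ γ • x0 = w with hΓ
  have hΓinv : ∀ m ∈ M, ∀ z x w, Γ z x w → Γ (m • z) (m • x) (m • w) := by
    rintro m hm z x w ⟨γ, hγ, rfl, rfl, rfl⟩
    exact ⟨m * γ, Subgroup.mul_mem _ hm hγ, mul_smul _ _ _, mul_smul _ _ _, mul_smul _ _ _⟩
  have hΓiff : ∀ m ∈ M, ∀ z x w, Γ (m • z) (m • x) (m • w) ↔ Γ z x w := fun m hm z x w =>
    ⟨fun h' => by simpa using hΓinv m⁻¹ (Subgroup.inv_mem _ hm) _ _ _ h', hΓinv m hm z x w⟩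
  set X := F \ E with hX
  have hXc : X.card = F.card - (t - 2) := by rw [hX, Finset.card_sdiff_of_subset hEF, hEc]
  set NE : Subgroup G := stabilizer G F ⊓ M with hNE
  have hNEF : ∀ n ∈ NE, n • F = F := fun n hn => mem_stabilizer_iff.1 hn.1
  have hNEX : ∀ n ∈ NE, ∀ a ∈ X, n • a ∈ X := by
    intro n hn a ha
    obtain ⟨a1, a2⟩ := Finset.mem_sdiff.1 ha
    refine Finset.mem_sdiff.2 ⟨hNEF n hn ▸ Finset.smul_mem_smul_finset a1, fun hmem => a2 ?_⟩
    have h1 : n • (n • a) = n • a := mem_fixing.1 hn.2 _ hmem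
    rw [MulAction.injective n h1] at hmem
    exact hmem
  have hpairs : ∀ a ∈ X, ∀ b ∈ X, a ≠ b → ∀ a' ∈ X, ∀ b' ∈ X, a' ≠ b' →
      ∃ n ∈ NE, n • a = a' ∧ n • b = b' := by
    intro a ha b hb hab a' ha' b' hb' hab'
    have hinj : ∀ p q : α, p ∈ X → q ∈ X → p ≠ q →
        Function.Injective (Sum.elim (fun e : E => (e : α)) ![p, q]) := by
      intro p q hp hq hpq
      refine Function.Injective.sumElim Subtype.val_injective ?_ ?_
      · intro i j hij; fin_cases i <;> fin_cases j <;> simp_all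
      · intro e j; fin_cases j <;> intro he <;> simp at he
        · exact (Finset.mem_sdiff.1 hp).2 (he ▸ e.2)
        · exact (Finset.mem_sdiff.1 hq).2 (he ▸ e.2)
    obtain ⟨n, hnF, hn'⟩ := hF.stab_map h (ι := E ⊕ Fin 2)
      (a := Sum.elim (fun e : E => (e : α)) ![a, b])
      (b := Sum.elim (fun e : E => (e : α)) ![a', b'])
      (by simp; omega) (hinj a b ha hb hab) (hinj a' b' ha' hb' hab')
      (by rintro (e | j); exacts [hEF e.2, by fin_cases j <;>
        simp [(Finset.mem_sdiff.1 ha).1, (Finset.mem_sdiff.1 hb).1]])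
      (by rintro (e | j); exacts [hEF e.2, by fin_cases j <;>
        simp [(Finset.mem_sdiff.1 ha').1, (Finset.mem_sdiff.1 hb').1]])
    exact ⟨n, ⟨mem_stabilizer_iff.2 hnF, mem_fixing.2 fun e he => hn' (Sum.inl ⟨e, he⟩)⟩,
      hn' (Sum.inr 0), hn' (Sum.inr 1)⟩
  have hRF1 : ∀ c ∈ U, ∃ c' ∈ orb K c, c' ∈ F1 \ I ∧ c' ∈ U := by
    intro c hc
    rcases Finset.mem_union.1 hc with h1 | h1
    · exact ⟨c, self_mem_orb _ c, h1, hc⟩
    · have h2 : k0 • c ∈ F1 \ I := by
        rw [← hKswap, ← hKI k0 hk0, ← Finset.smul_finset_sdiff]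
        exact Finset.smul_mem_smul_finset h1
      exact ⟨k0 • c, mem_orb.2 ⟨k0, hk0, rfl⟩, h2, Finset.mem_union_left _ h2⟩
  -- a point of `U` on which the relation is constant
  obtain ⟨v, hv, κ, hvκ⟩ : ∃ v ∈ F \ F1, ∃ κ : Prop,
      ∀ z ∈ I \ E, ∀ x ∈ I \ E, z ≠ x → (Γ z x v ↔ κ) := by
    by_contra hall
    push Not at hall
    have hnc : ∀ c ∈ U, ∀ κ : Prop, ∃ z ∈ X, ∃ x ∈ X, z ≠ x ∧ ¬ (Γ z x c ↔ κ) := by
      intro c hc κ
      obtain ⟨c', hc', hc'F1, -⟩ := hRF1 c hc
      obtain ⟨k, hk, hkc⟩ := mem_orb.1 hc'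
      have hv : g • c' ∈ F \ F1 := by
        refine Finset.mem_sdiff.2 ⟨hgF1 ▸ Finset.smul_mem_smul_finset (Finset.mem_sdiff.1 hc'F1).1,
          fun hmem => ?_⟩
        rw [← hgF, Finset.smul_mem_smul_finset_iff] at hmem
        exact (Finset.mem_compl.1 (hUout (Finset.mem_union_left _ hc'F1))) hmem
      obtain ⟨z, hz, x, hx, hzx, hbad⟩ := hall _ hv κ
      obtain ⟨hzI, hzE⟩ := Finset.mem_sdiff.1 hz
      obtain ⟨hxI, hxE⟩ := Finset.mem_sdiff.1 hx
      refine ⟨z, Finset.mem_sdiff.2 ⟨hIF hzI, hzE⟩, x, Finset.mem_sdiff.2 ⟨hIF hxI, hxE⟩, hzx, ?_⟩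
      have hgk : g * k ∈ M := Subgroup.mul_mem _ (fixing_mono hEI hgI) (fixing_mono hEF hk)
      have e := hΓiff (g * k) hgk z x c
      rw [mul_smul, mul_smul, mul_smul, mem_fixing.1 hk z (hIF hzI), mem_fixing.1 hk x (hIF hxI),
        mem_fixing.1 hgI z hzI, mem_fixing.1 hgI x hxI, hkc] at e
      rw [← e]
      rcases hbad with hb | hb
      · exact fun hiff => hb.2 (hiff.1 hb.1)
      · exact fun hiff => hb.1 (hiff.2 hb.2)
    set Bad : Finset α := Fᶜ.filter fun c => ∃ n : G, n • F = F ∧ (∀ a ∈ F1, n • a = a) ∧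
      n • orb K c ≠ orb K c with hBad
    have hfix : ∀ (n : G) c, n • F = F → (∀ a ∈ F1, n • a = a) → (orb K c ∩ F1).Nonempty →
        n • orb K c = orb K c := by
      intro n c hnF hn1 hne
      obtain ⟨p, hp⟩ := hne
      obtain ⟨hp1, hp2⟩ := Finset.mem_inter.1 hp
      rw [← orb_eq_of_mem hp1, hK, Good.smul_orb hnF, hn1 p hp2]
    have hBadU : Disjoint U Bad := Finset.disjoint_left.2 fun c hc hcB => by
      obtain ⟨-, n, hnF, hn1, hne⟩ := Finset.mem_filter.1 hcB
      obtain ⟨c', hc', hc'F1, -⟩ := hRF1 c hc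
      exact hne (hfix n c hnF hn1 ⟨c', Finset.mem_inter.2 ⟨hc', (Finset.mem_sdiff.1 hc'F1).1⟩⟩)
    have hBadc : Bad.card + 2 * (F.card - I.card) ≤ F.card := by
      have h1 := Finset.card_le_card (Finset.union_subset hUout (Finset.filter_subset _ Fᶜ) :
        U ∪ Bad ⊆ Fᶜ)
      rw [Finset.card_union_of_disjoint hBadU, hUc, Finset.card_compl, hn] at h1
      omega
    -- choice of the orbit
    have hdisjO : ((U.image (orb NE)) : Set (Finset α)).PairwiseDisjoint id := by
      intro O1 h1 O2 h2 hne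
      obtain ⟨c1, -, rfl⟩ := Finset.mem_image.1 h1
      obtain ⟨c2, -, rfl⟩ := Finset.mem_image.1 h2
      exact Finset.disjoint_left.2 fun a ha hb => hne (by rw [← orb_eq_of_mem ha, ← orb_eq_of_mem hb])
    obtain ⟨O, hOmem, hOineq⟩ : ∃ O ∈ U.image (orb NE),
        (O.filter (· ∈ Bad)).card * F.card ≤ (2 * I.card - F.card) * O.card := by
      refine Finset.exists_le_of_sum_le ?_ ?_
      · refine Finset.Nonempty.image (Finset.card_pos.1 ?_) _
        omega
      · rw [← Finset.sum_mul, ← Finset.mul_sum]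
        set SB := ∑ O ∈ U.image (orb NE), (O.filter (· ∈ Bad)).card
        have hSB : SB ≤ Bad.card := by
          have hd : ((U.image (orb NE) : Finset (Finset α)) : Set (Finset α)).PairwiseDisjoint
              fun O => O.filter (· ∈ Bad) := fun O1 h1 O2 h2 hne =>
            Finset.disjoint_of_subset_left (Finset.filter_subset _ _)
              (Finset.disjoint_of_subset_right (Finset.filter_subset _ _) (hdisjO h1 h2 hne))
          refine (Finset.card_biUnion hd).symm.trans_le ?_
          refine Finset.card_le_card fun a ha => ?_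
          obtain ⟨O, -, ha⟩ := Finset.mem_biUnion.1 ha
          exact (Finset.mem_filter.1 ha).2
        have hSW : SB + U.card ≤ ∑ O ∈ U.image (orb NE), O.card := by
          have e : ∀ O ∈ U.image (orb NE),
              (O.filter (· ∈ Bad)).card + (O.filter (· ∈ U)).card ≤ O.card := fun O _ => by
            rw [← Finset.card_union_of_disjoint]
            · exact Finset.card_le_card (Finset.union_subset (Finset.filter_subset _ _)
                (Finset.filter_subset _ _))
            · exact Finset.disjoint_left.2 fun a ha hb => Finset.disjoint_left.1 hBadU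
                (Finset.mem_filter.1 hb).2 (Finset.mem_filter.1 ha).2
          have e2 : U.card ≤ ∑ O ∈ U.image (orb NE), (O.filter (· ∈ U)).card := by
            refine (Finset.card_le_card ?_).trans Finset.card_biUnion_le
            intro a ha
            exact Finset.mem_biUnion.2 ⟨_, Finset.mem_image_of_mem _ ha,
              Finset.mem_filter.2 ⟨self_mem_orb _ a, ha⟩⟩
          calc SB + U.card ≤ SB + ∑ O ∈ U.image (orb NE), (O.filter (· ∈ U)).card := by omega
            _ = ∑ O ∈ U.image (orb NE), ((O.filter (· ∈ Bad)).card + (O.filter (· ∈ U)).card) :=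
                Finset.sum_add_distrib.symm
            _ ≤ _ := Finset.sum_le_sum e
        obtain ⟨x, hx⟩ : ∃ x, 2 * I.card = F.card + x := ⟨2 * I.card - F.card, by omega⟩
        rw [hx, Nat.add_sub_cancel_left]
        have hSBx : SB ≤ x := by omega
        have hfx : F.card = x + U.card := by omega
        rw [hfx]
        nlinarith [Nat.mul_le_mul_right U.card hSBx, Nat.mul_le_mul_left x hSW]
    obtain ⟨c0, hc0U, rfl⟩ := Finset.mem_image.1 hOmem
    obtain ⟨c1, hc1, hc1F1, hc1U⟩ := hRF1 c0 hc0U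
    have hKNE : K ≤ NE := le_inf (fixing_le_stabilizer F) (fixing_mono hEF)
    have hOeq : orb NE c0 = orb NE c1 := by
      obtain ⟨k, hk, rfl⟩ := mem_orb.1 hc1
      exact (orb_eq_of_mem (mem_orb.2 ⟨k, hKNE hk, rfl⟩)).symm
    rw [hOeq] at hOineq
    set O := orb NE c1 with hOdef
    set R := orb K c1 with hRdef
    have hc1out : c1 ∉ F := Finset.mem_compl.1 (hUout hc1U)
    have hRU : R ⊆ U := by
      intro a ha
      obtain ⟨k, hk, rfl⟩ := mem_orb.1 ha
      exact hKU k hk c1 hc1U
    have hRsplit : R.card = 2 * (R ∩ F1).card := by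
      have hb : (R \ F1).card = (R ∩ F1).card := by
        refine Finset.card_bij' (fun a _ => k0 • a) (fun a _ => k0⁻¹ • a) ?_ ?_ ?_ ?_
        · intro a ha
          obtain ⟨a1, a2⟩ := Finset.mem_sdiff.1 ha
          refine Finset.mem_inter.2 ⟨smul_mem_orb hk0 a1, ?_⟩
          rcases Finset.mem_union.1 (hRU a1) with e | e
          · exact absurd (Finset.mem_sdiff.1 e).1 a2
          · rw [← hKswap]; exact Finset.smul_mem_smul_finset (Finset.mem_sdiff.1 e).1
        · intro a ha
          obtain ⟨a1, a2⟩ := Finset.mem_inter.1 ha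
          refine Finset.mem_sdiff.2 ⟨smul_mem_orb (K.inv_mem hk0) a1, fun e => ?_⟩
          rw [Finset.inv_smul_mem_iff, ← hF2] at e
          exact (Good.orb_disjoint hc1out a1) (hIF (hmeet.2 ▸ Finset.mem_inter.2 ⟨a2, e⟩))
        · intro a _; exact inv_smul_smul _ _
        · intro a _; exact smul_inv_smul _ _
      have := Finset.card_sdiff_add_card_inter R F1
      omega
    set y := (R ∩ F1).card with hy
    set Y := g • (R ∩ F1) with hY
    have hYc : Y.card = y := Finset.card_smul_finset _ _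
    have hRgt : t < R.card := hF.lt_orb_card h htf.le hc1out
    have hy3 : 3 ≤ y := by
      by_contra hlt
      have h3 : t = 3 := by omega
      subst h3
      exact hF.orb_card_ne_four h hn hc1out (show R.card = 4 by omega)
    have hYX : Y ⊆ X := by
      intro a ha
      obtain ⟨b, hb, rfl⟩ := Finset.mem_smul_finset.1 ha
      obtain ⟨b1, b2⟩ := Finset.mem_inter.1 hb
      refine Finset.mem_sdiff.2 ⟨hgF1 ▸ Finset.smul_mem_smul_finset b2, fun e => ?_⟩
      have := MulAction.injective g (mem_fixing.1 hgI _ (hEI e))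
      exact Good.orb_disjoint hc1out b1 (hIF (this ▸ hEI e))
    set I'' := I \ E with hI''
    have hIY : Disjoint I'' Y := Finset.disjoint_left.2 fun a ha hb => by
      obtain ⟨b, hb', hba⟩ := Finset.mem_smul_finset.1 (hY ▸ hb : a ∈ g • (R ∩ F1))
      have hmI := (Finset.mem_sdiff.1 ha).1
      have hab : b = a := MulAction.injective g (hba.trans (mem_fixing.1 hgI _ hmI).symm)
      exact Good.orb_disjoint hc1out (Finset.mem_inter.1 hb').1 (hab ▸ hIF hmI)
    -- regularity
    have hreg : ∀ c, c ∉ F → ∃ P : ℕ, (∀ z ∈ X, ((X.erase z).filter fun x => Γ z x c).card = P) ∧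
        ∀ x ∈ X, ((X.erase x).filter fun z => Γ z x c).card = P := by
      intro c hc
      refine regular_rel (N := orbStab (G := G) F E (orb K c))
        (fun a ha b hb => hF.orbStab_transitive h htf.le hn hc hEF (by omega) ha hb) ?_ ?_
        (Finset.card_pos.1 (by omega))
      · intro n hn' a ha
        obtain ⟨n1, n2, -⟩ := mem_orbStab.1 hn'
        exact hNEX n ⟨mem_stabilizer_iff.2 n1, mem_fixing.2 n2⟩ a ha
      · intro n hn' a ha b hb hr
        obtain ⟨n1, n2, n3⟩ := mem_orbStab.1 hn'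
        obtain ⟨m, hm, hmc, hmF⟩ := hF.inv_rel hEF n1 n2 n3
        have := hΓinv m hm _ _ _ hr
        rwa [hmc, hmF a (Finset.mem_sdiff.1 ha).1, hmF b (Finset.mem_sdiff.1 hb).1] at this
    obtain ⟨P0, hP0r, hP0c⟩ := hreg c1 hc1out
    set e := F.card - t + 1 with he
    have hXe : X.card = e + 1 := by omega
    obtain ⟨D, hD⟩ : ∃ D : α → α → α → Prop, ∀ c z x, D c z x ↔ (Γ z x c ↔ 2 * P0 ≤ e) :=
      ⟨_, fun _ _ _ => Iff.rfl⟩
    set P := if 2 * P0 ≤ e then P0 else e - P0 with hP
    have hP0e : P0 ≤ e := by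
      obtain ⟨z, hz⟩ : X.Nonempty := Finset.card_pos.1 (by omega)
      rw [← hP0r z hz]
      refine (Finset.card_filter_le _ _).trans ?_
      rw [Finset.card_erase_of_mem hz]; omega
    have hOout : ∀ c ∈ O, c ∉ F := by
      intro c hc hcF
      obtain ⟨n, hn', rfl⟩ := mem_orb.1 hc
      rw [← hNEF n hn', Finset.smul_mem_smul_finset_iff] at hcF
      exact hc1out hcF
    have hcnt : ∀ c ∈ O, (∀ z ∈ X, ((X.erase z).filter fun x => Γ z x c).card = P0) ∧
        ∀ x ∈ X, ((X.erase x).filter fun z => Γ z x c).card = P0 := by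
      intro c hc
      obtain ⟨P', h1, h2⟩ := hreg c (hOout c hc)
      obtain ⟨n, hn', rfl⟩ := mem_orb.1 hc
      obtain ⟨z, hz⟩ : X.Nonempty := Finset.card_pos.1 (by omega)
      have e1 : ((X.erase z).filter fun x => Γ z x c1).card ≤
          ((X.erase (n • z)).filter fun x => Γ (n • z) x (n • c1)).card := by
        refine Finset.card_le_card_of_injOn (fun x => n • x) (fun x hx => ?_)
          (fun _ _ _ _ e' => MulAction.injective n e')
        obtain ⟨hx1, hx2⟩ := Finset.mem_filter.1 hx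
        obtain ⟨hxne, hxX⟩ := Finset.mem_erase.1 hx1
        exact Finset.mem_filter.2 ⟨Finset.mem_erase.2 ⟨fun e' => hxne (MulAction.injective n e'),
          hNEX n hn' x hxX⟩, hΓinv n hn'.2 _ _ _ hx2⟩
      have e2 : ((X.erase (n • z)).filter fun x => Γ (n • z) x (n • c1)).card ≤
          ((X.erase z).filter fun x => Γ z x c1).card := by
        refine Finset.card_le_card_of_injOn (fun x => n⁻¹ • x) (fun x hx => ?_)
          (fun _ _ _ _ e' => MulAction.injective n⁻¹ e')
        obtain ⟨hx1, hx2⟩ := Finset.mem_filter.1 hx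
        obtain ⟨hxne, hxX⟩ := Finset.mem_erase.1 hx1
        refine Finset.mem_filter.2 ⟨Finset.mem_erase.2
          ⟨fun e' => hxne (inv_smul_eq_iff.1 e'), hNEX n⁻¹ (NE.inv_mem hn') x hxX⟩, ?_⟩
        have := hΓinv n⁻¹ (M.inv_mem hn'.2) _ _ _ hx2
        rwa [inv_smul_smul, inv_smul_smul] at this
      rw [hP0r z hz, h1 _ (hNEX n hn' z hz)] at e1
      rw [hP0r z hz, h1 _ (hNEX n hn' z hz)] at e2
      have : P' = P0 := le_antisymm e2 e1
      exact ⟨this ▸ h1, this ▸ h2⟩
    have hflip : ∀ (S : Finset α) (p : α → Prop), S.card = e →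
        (S.filter p).card = P0 →
        (S.filter fun a => (p a ↔ 2 * P0 ≤ e)).card = P := by
      intro S p hS hp
      by_cases hb : 2 * P0 ≤ e
      · simp only [hb, if_true, iff_true, hP]; exact hp
      · simp only [hb, if_false, iff_false, hP]
        have := Finset.card_filter_add_card_filter_not (s := S) p
        omega
    have herase : ∀ z ∈ X, (X.erase z).card = e := fun z hz => by
      rw [Finset.card_erase_of_mem hz]; omega
    have hDinv : ∀ n ∈ NE, ∀ c z x, D (n • c) (n • z) (n • x) ↔ D c z x := by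
      intro n hn' c z x
      simp only [hD, hΓiff n hn'.2 z x c]
    have hP1 : 1 ≤ P := by
      by_contra hP0'
      obtain ⟨z, hz, x, hx, hzx, hne⟩ := hnc c1 hc1U (¬ 2 * P0 ≤ e)
      have hfl := hflip (X.erase z) (fun a => Γ z a c1) (herase z hz) (hP0r z hz)
      rw [Nat.not_le, Nat.lt_one_iff] at hP0'
      rw [hP0', Finset.card_eq_zero, Finset.filter_eq_empty_iff] at hfl
      have := hfl (Finset.mem_erase.2 ⟨hzx.symm, hx⟩)
      tauto
    obtain ⟨S, hS0, hS1, hineq⟩ := moment_ineq (O := O) (B := Bad) (X := X) (I := I'') (Y := Y) D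
      (P := P) (e := e) hXe (by omega) (Finset.sdiff_subset_sdiff hIF (Finset.Subset.refl E)) hYX hIY
      (Finset.card_pos.1 (by omega))
      (Finset.card_pos.1 (by rw [hI'', Finset.card_sdiff_of_subset hEI, hEc]; omega))
      (fun c hc z hz => (congrArg Finset.card (Finset.filter_congr fun a _ => hD c z a)).trans
        (hflip _ _ (herase z hz) ((hcnt c hc).1 z hz)))
      (fun c hc x hx => (congrArg Finset.card (Finset.filter_congr fun a _ => hD c a x)).trans
        (hflip _ _ (herase x hx) ((hcnt c hc).2 x hx)))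
      (fun z hz x hx hzx z' hz' x' hx' hzx' => by
        obtain ⟨n, hn', rfl, rfl⟩ := hpairs z hz x hx hzx z' hz' x' hx' hzx'
        refine Finset.card_bij' (fun c _ => n • c) (fun c _ => n⁻¹ • c) ?_ ?_ ?_ ?_
        · intro c hc
          obtain ⟨a1, a2⟩ := Finset.mem_filter.1 hc
          exact Finset.mem_filter.2 ⟨smul_mem_orb hn' a1, (hDinv n hn' c z x).2 a2⟩
        · intro c hc
          obtain ⟨a1, a2⟩ := Finset.mem_filter.1 hc
          refine Finset.mem_filter.2 ⟨smul_mem_orb (NE.inv_mem hn') a1, ?_⟩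
          rw [← hDinv n hn', smul_inv_smul]
          exact a2
        · intro c _; exact inv_smul_smul _ _
        · intro c _; exact smul_inv_smul _ _)
      (fun x hx y' hy' hxy x' hx' y'' hy'' hxy' => by
        obtain ⟨n, hn', rfl, rfl⟩ := hpairs x hx y' hy' hxy x' hx' y'' hy'' hxy'
        refine Finset.sum_bij' (fun c _ => n • c) (fun c _ => n⁻¹ • c) ?_ ?_ ?_ ?_ ?_
        · intro c hc; exact smul_mem_orb hn' hc
        · intro c hc; exact smul_mem_orb (NE.inv_mem hn') hc
        · intro c _; exact inv_smul_smul _ _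
        · intro c _; exact smul_inv_smul _ _
        · intro c _
          refine Finset.card_bij' (fun z _ => n • z) (fun z _ => n⁻¹ • z) ?_ ?_ ?_ ?_
          · intro z hz
            simp only [Finset.mem_filter, Finset.mem_erase] at hz ⊢
            obtain ⟨⟨a1, a2, a3⟩, a4, a5⟩ := hz
            exact ⟨⟨fun e' => a1 (MulAction.injective n e'), fun e' => a2 (MulAction.injective n e'),
              hNEX n hn' z a3⟩, (hDinv n hn' c z x).2 a4, (hDinv n hn' c z y').2 a5⟩
          · intro z hz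
            simp only [Finset.mem_filter, Finset.mem_erase] at hz ⊢
            obtain ⟨⟨a1, a2, a3⟩, a4, a5⟩ := hz
            refine ⟨⟨fun e' => a1 (inv_smul_eq_iff.1 e'), fun e' => a2 (inv_smul_eq_iff.1 e'),
              hNEX _ (NE.inv_mem hn') z a3⟩, ?_, ?_⟩
            · rw [← hDinv n hn', smul_inv_smul]; exact a4
            · rw [← hDinv n hn', smul_inv_smul]; exact a5
          · intro z _; exact inv_smul_smul _ _
          · intro z _; exact smul_inv_smul _ _)
      (fun c hc hcB z hz x hx x' hx' hDx => by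
        obtain ⟨b, hb, rfl⟩ := Finset.mem_smul_finset.1 hx
        obtain ⟨b', hb', rfl⟩ := Finset.mem_smul_finset.1 hx'
        obtain ⟨hb1, hb2⟩ := Finset.mem_inter.1 hb
        obtain ⟨hb1', hb2'⟩ := Finset.mem_inter.1 hb'
        obtain ⟨k, hk, hkb⟩ := mem_orb.1 (show b' ∈ orb K b by rw [orb_eq_of_mem hb1]; exact hb1')
        set n := g * k * g⁻¹ with hn'
        have hn1 : ∀ a ∈ F1, n • a = a := by
          intro a ha
          rw [← hgF] at ha
          exact mem_fixing.1 (conj_mem_fixing (g := g) hk) a ha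
        have hnI : n ∈ fixingSubgroup G (I : Set α) :=
          mem_fixing.2 fun a ha => hn1 a (hIF1 ha)
        have hnF : n • F = F := by
          rcases hthree n (by
            conv_lhs => rw [← smul_finset_eq_of_fix hnI]
            exact Finset.smul_finset_subset_smul_finset hIF) with e' | e' | e'
          · exact e'
          · exfalso
            have : n • F = n • F1 := by
              rw [e', smul_finset_eq_of_fix (mem_fixing.2 hn1)]
            exact hg1 ((smul_left_cancel_iff n).1 this).symm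
          · exfalso
            have h1 : g • b' ∈ F2 := by
              rw [← e', show g • b' = n • (g • b) by
                rw [hn', mul_smul, mul_smul, inv_smul_smul, hkb]]
              exact Finset.smul_mem_smul_finset (hgF1 ▸ Finset.smul_mem_smul_finset hb2)
            have h2 : g • b' ∈ F := hgF1 ▸ Finset.smul_mem_smul_finset hb2'
            have h3 : g • b' ∈ I := hmeet.1 ▸ Finset.mem_inter.2 ⟨h2, h1⟩
            have h4 : g • b' = b' := MulAction.injective g (mem_fixing.1 hgI _ h3)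
            exact Good.orb_disjoint hc1out hb1' (hIF (h4 ▸ h3))
        have hnR : n • orb K c = orb K c := by
          by_contra hne
          exact hcB (Finset.mem_filter.2 ⟨Finset.mem_compl.2 (hOout c hc), n, hnF, hn1, hne⟩)
        obtain ⟨m, hm, hmc, hmF⟩ := hF.inv_rel hEF hnF (fun a ha => hn1 a (hIF1 (hEI ha))) hnR
        have hz' := (Finset.mem_sdiff.1 hz).1
        have e1 := hΓiff m hm z (g • b) c
        rw [hmc, hmF z (hIF hz'), hn1 z (hIF1 hz'),
          hmF (g • b) (hgF1 ▸ Finset.smul_mem_smul_finset hb2),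
          show n • (g • b) = g • b' by rw [hn', mul_smul, mul_smul, inv_smul_smul, hkb]] at e1
        simp only [hD] at hDx ⊢
        rwa [e1])
    have hι : (I''.card : ℤ) = (I.card : ℤ) - t + 2 := by
      rw [hI'', Finset.card_sdiff_of_subset hEI, hEc]; omega
    have heZ : (e : ℤ) = (F.card : ℤ) - t + 1 := by omega
    obtain ⟨hcase1, hcase2⟩ := moment_final (W := (O.card : ℤ))
      (b := ((O.filter (· ∈ Bad)).card : ℤ)) (ι := (I''.card : ℤ)) (y := (Y.card : ℤ))
      (P := (P : ℤ)) (e := (e : ℤ)) (O.filter (· ∈ Bad)) S (fun c _ => hS0 c)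
      (fun c hc => hS1 c (Finset.mem_filter.1 hc).1) rfl (by omega) (by omega) (by omega) (by omega)
      hineq
    have hPe : (2 : ℤ) * P ≤ e := by
      have : 2 * P ≤ e := by
        by_cases hb : 2 * P0 ≤ e <;> simp only [hP, hb, if_true, if_false] <;> omega
      exact_mod_cast this
    rw [hYc] at hcase1 hcase2
    set bb := (O.filter (· ∈ Bad)).card with hbb
    have hWpos : (0 : ℤ) < (O.card : ℤ) := by
      exact_mod_cast Finset.card_pos.2 ⟨c1, self_mem_orb _ c1⟩
    have hPι : (0 : ℤ) < (I''.card : ℤ) + 1 - P := by omega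
    have hP1' : (1 : ℤ) ≤ P := by exact_mod_cast hP1
    have hy3' : (3 : ℤ) ≤ y := by exact_mod_cast hy3
    have hι1 : (1 : ℤ) ≤ (I''.card : ℤ) := by omega
    rcases Nat.eq_zero_or_pos bb with hb0 | hbpos
    · rw [hb0] at hcase2
      push_cast at hcase2
      have h1 : (0 : ℤ) < 4 * ((y : ℤ) - 1) * O.card * P * ((I''.card : ℤ) + 1 - P) := by
        refine mul_pos (mul_pos (mul_pos ?_ hWpos) (by linarith)) hPι
        linarith
      simp at hcase2
      linarith
    · obtain ⟨c, hc⟩ := Finset.card_pos.1 hbpos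
      obtain ⟨hcO, hcB⟩ := Finset.mem_filter.1 hc
      obtain ⟨-, n, hnF, hn1, hne⟩ := Finset.mem_filter.1 hcB
      obtain ⟨m, hm, hmc⟩ := mem_orb.1 hcO
      have hRc : (orb K c).card = 2 * y := by
        rw [← hmc, hK, ← Good.smul_orb (hNEF m hm), Finset.card_smul_finset, ← hK, ← hRdef, hRsplit]
      have hcF : c ∉ F := hOout c hcO
      have hsubU : ∀ a, orb K a ≠ n • orb K a → a ∉ U := by
        intro a hne' haU
        obtain ⟨c', hc', hc'F1, -⟩ := hRF1 a haU
        exact hne' (hfix n a hnF hn1 ⟨c', Finset.mem_inter.2 ⟨hc', (Finset.mem_sdiff.1 hc'F1).1⟩⟩).symm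
      have hout1 : orb K c ⊆ Fᶜ \ U := by
        intro a ha
        refine Finset.mem_sdiff.2 ⟨Finset.mem_compl.2 (Good.orb_disjoint hcF ha), hsubU a ?_⟩
        rw [orb_eq_of_mem ha]; exact Ne.symm hne
      have hncF : n • c ∉ F := fun e' => by
        rw [← hnF, Finset.smul_mem_smul_finset_iff] at e'; exact hcF e'
      have hnorb : n • orb K c = orb K (n • c) := Good.smul_orb hnF c
      have hout2 : n • orb K c ⊆ Fᶜ \ U := by
        rw [hnorb]
        intro a ha
        refine Finset.mem_sdiff.2 ⟨Finset.mem_compl.2 (Good.orb_disjoint hncF ha), hsubU a ?_⟩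
        rw [orb_eq_of_mem ha, ← hnorb]
        exact fun e' => hne ((smul_left_cancel_iff n).1 e').symm
      have hdis : Disjoint (orb K c) (n • orb K c) := by
        rw [hnorb]
        refine Finset.disjoint_left.2 fun a ha hb => hne ?_
        rw [hnorb, ← orb_eq_of_mem hb, orb_eq_of_mem ha]
      have h5 := Finset.card_le_card (Finset.union_subset hout1 hout2)
      rw [Finset.card_union_of_disjoint hdis, Finset.card_smul_finset, hRc,
        Finset.card_sdiff_of_subset hUout, hUc, Finset.card_compl, hn] at h5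
      set xx : ℤ := 2 * (I.card : ℤ) - F.card with hxx
      have hx4 : 4 * (y : ℤ) ≤ xx := by omega
      have hty : (t : ℤ) + 1 ≤ 2 * y := by omega
      have hf3 : 3 * xx < F.card := by omega
      have hbf : (bb : ℤ) * F.card ≤ xx * O.card := by
        have h6 : ((bb * F.card : ℕ) : ℤ) ≤ (((2 * I.card - F.card) * O.card : ℕ) : ℤ) := by
          exact_mod_cast hOineq
        rw [Nat.cast_mul, Nat.cast_mul, Nat.cast_sub (by omega)] at h6
        push_cast at h6
        exact h6
      have hF0 : (0 : ℤ) ≤ (F.card : ℤ) := Int.natCast_nonneg _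
      by_cases h2P : 2 * (P : ℤ) ≤ I''.card
      · have h7 := hcase1 h2P
        have h8 : ((y : ℤ) - 1) * I''.card * O.card * ((I''.card : ℤ) + 1 - P) * F.card ≤
            (e : ℤ) * y * ((I''.card : ℤ) - P) * (xx * O.card) := by
          calc ((y : ℤ) - 1) * I''.card * O.card * ((I''.card : ℤ) + 1 - P) * F.card
              ≤ (e : ℤ) * bb * y * ((I''.card : ℤ) - P) * F.card :=
                mul_le_mul_of_nonneg_right h7 hF0
            _ = (e : ℤ) * y * ((I''.card : ℤ) - P) * ((bb : ℤ) * F.card) := by ring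
            _ ≤ _ := mul_le_mul_of_nonneg_left hbf
                (mul_nonneg (mul_nonneg (Int.natCast_nonneg _) (by linarith)) (by linarith))
        have h9 := arith_small hy3' (by omega : (3 : ℤ) ≤ t) hty hx4 hxx hf3
        rw [← hι, ← heZ] at h9
        have h10 : (0 : ℤ) ≤ (e : ℤ) * y * xx := by
          refine mul_nonneg (mul_nonneg (Int.natCast_nonneg _) ?_) ?_ <;> linarith
        nlinarith [mul_lt_mul_of_pos_right h9 (mul_pos hWpos hPι), mul_nonneg h10 hWpos.le]
      · have h8 : 4 * ((y : ℤ) - 1) * O.card * P * ((I''.card : ℤ) + 1 - P) * F.card ≤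
            (e : ℤ) * y * I''.card * (xx * O.card) := by
          calc 4 * ((y : ℤ) - 1) * O.card * P * ((I''.card : ℤ) + 1 - P) * F.card
              ≤ (e : ℤ) * bb * y * I''.card * F.card := mul_le_mul_of_nonneg_right hcase2 hF0
            _ = (e : ℤ) * y * I''.card * ((bb : ℤ) * F.card) := by ring
            _ ≤ _ := mul_le_mul_of_nonneg_left hbf
                (mul_nonneg (mul_nonneg (Int.natCast_nonneg _) (by linarith)) (by linarith))
        have h9 := arith_large hy3' hty hx4 hxx hf3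
        rw [← hι] at h9
        have h11 : (e : ℤ) * (xx - t + 5) ≤ 4 * P * ((I''.card : ℤ) + 1 - P) := by
          have h12 : (0 : ℤ) ≤ ((e : ℤ) - 2 * P) * (2 * P + e - 2 * I''.card - 2) := by
            refine mul_nonneg (by linarith) ?_
            omega
          have : xx - t + 5 = 2 * (I''.card : ℤ) + 2 - e := by omega
          rw [this]; nlinarith
        have hepos : (0 : ℤ) < (e : ℤ) := by omega
        have h13 : (0 : ℤ) ≤ ((y : ℤ) - 1) * F.card * O.card :=
          mul_nonneg (mul_nonneg (by linarith) hF0) hWpos.le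
        nlinarith [mul_le_mul_of_nonneg_left h11 h13,
          mul_lt_mul_of_pos_right h9 (mul_pos hepos hWpos)]
  -- the relation on tuples with one entry outside the intersection
  obtain ⟨hvF, hv1⟩ := Finset.mem_sdiff.1 hv
  have hvE : v ∉ E := fun e => hv1 (hIF1 (hEI e))
  have hvX : v ∈ X := Finset.mem_sdiff.2 ⟨hvF, hvE⟩
  set Γ' : α → α → α → Prop := fun z x w => ¬ (Γ z x w ↔ κ) with hΓ'
  have hΓ'inv : ∀ n ∈ NE, ∀ z x w, Γ' (n • z) (n • x) (n • w) ↔ Γ' z x w := by
    intro n hn' z x w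
    simp only [hΓ', hΓiff n hn'.2 z x w]
  obtain ⟨zx, hzxX, hzxne⟩ : ∃ zx : α × α, (zx.1 ∈ X ∧ zx.2 ∈ X) ∧ zx.1 ≠ zx.2 := by
    obtain ⟨a, ha⟩ : (X.erase v).Nonempty :=
      Finset.card_pos.1 (by rw [Finset.card_erase_of_mem hvX]; omega)
    exact ⟨(a, v), ⟨(Finset.mem_erase.1 ha).2, hvX⟩, (Finset.mem_erase.1 ha).1⟩
  set φ := (((X.erase zx.1).erase zx.2).filter fun x => Γ' zx.1 x zx.2).card with hφ
  set φ' := (((X.erase zx.1).erase zx.2).filter fun z => Γ' z zx.1 zx.2).card with hφ'
  have hout : ∀ z ∈ X, ∀ w ∈ X, z ≠ w →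
      (((X.erase z).erase w).filter fun x => Γ' z x w).card = φ ∧
      (((X.erase z).erase w).filter fun x => Γ' x z w).card = φ' := by
    intro z hz w hw hzw
    obtain ⟨n, hn', h1, h2⟩ := hpairs zx.1 hzxX.1 zx.2 hzxX.2 hzxne z hz w hw hzw
    have himg : ((X.erase z).erase w) = n • ((X.erase zx.1).erase zx.2) := by
      refine (Finset.eq_of_subset_of_card_le (fun a ha => ?_) (le_of_eq ?_)).symm
      · obtain ⟨b, hb, rfl⟩ := Finset.mem_smul_finset.1 ha
        simp only [Finset.mem_erase] at hb ⊢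
        exact ⟨fun e => hb.1 (MulAction.injective n (e.trans h2.symm)),
          fun e => hb.2.1 (MulAction.injective n (e.trans h1.symm)), hNEX n hn' b hb.2.2⟩
      · rw [Finset.card_smul_finset, Finset.card_erase_of_mem, Finset.card_erase_of_mem hz,
          Finset.card_erase_of_mem, Finset.card_erase_of_mem hzxX.1]
        · exact Finset.mem_erase.2 ⟨hzxne.symm, hzxX.2⟩
        · exact Finset.mem_erase.2 ⟨hzw.symm, hw⟩
    subst h1 h2
    constructor <;>
    · rw [himg]
      refine (Finset.card_bij (fun a _ => n • a) ?_ ?_ ?_).symm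
      · intro a ha
        obtain ⟨a1, a2⟩ := Finset.mem_filter.1 ha
        exact Finset.mem_filter.2 ⟨Finset.smul_mem_smul_finset a1, (hΓ'inv n hn' _ _ _).2 a2⟩
      · intro a _ b _ e; exact MulAction.injective n e
      · intro b hb
        obtain ⟨b1, b2⟩ := Finset.mem_filter.1 hb
        obtain ⟨a, ha, rfl⟩ := Finset.mem_smul_finset.1 b1
        exact ⟨a, Finset.mem_filter.2 ⟨ha, (hΓ'inv n hn' _ _ _).1 b2⟩, rfl⟩
  have hswap : ∀ w ∈ X, ∑ z ∈ X.erase w, (((X.erase z).erase w).filter fun x => Γ' z x w).card =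
      ∑ x ∈ X.erase w, (((X.erase x).erase w).filter fun z => Γ' z x w).card := by
    intro w _
    have e : ∀ z, (X.erase z).erase w = (X.erase w).erase z := fun z => Finset.erase_right_comm
    simp only [e, Finset.card_filter]
    exact Finset.sum_comm' fun a b => by simp only [Finset.mem_erase]; tauto
  have hφeq : φ = φ' := by
    have h1 := hswap v hvX
    rw [Finset.sum_const_nat (fun z hz => (hout z (Finset.mem_erase.1 hz).2 v hvX
        (Finset.mem_erase.1 hz).1).1),
      Finset.sum_const_nat (fun z hz => (hout z (Finset.mem_erase.1 hz).2 v hvX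
        (Finset.mem_erase.1 hz).1).2)] at h1
    exact Nat.eq_of_mul_eq_mul_left (by rw [Finset.card_erase_of_mem hvX]; omega) h1
  have hvI : ∀ z ∈ I, z ≠ v := fun z hz e => hv1 (hIF1 (e ▸ hz))
  have hI''X : I \ E ⊆ X.erase v := fun z hz => by
    obtain ⟨a1, a2⟩ := Finset.mem_sdiff.1 hz
    exact Finset.mem_erase.2 ⟨hvI z a1, Finset.mem_sdiff.2 ⟨hIF a1, a2⟩⟩
  have hcount : (I \ E).card * φ ≤ ((X.erase v) \ (I \ E)).card * φ := by
    calc (I \ E).card * φ
        = ∑ z ∈ I \ E, (((X.erase z).erase v).filter fun x => Γ' z x v).card :=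
          (Finset.sum_const_nat fun z hz => (hout z (Finset.mem_erase.1 (hI''X hz)).2 v hvX
            (Finset.mem_erase.1 (hI''X hz)).1).1).symm
      _ ≤ ∑ z ∈ I \ E, (((X.erase v) \ (I \ E)).filter fun x => x ≠ z ∧ Γ' z x v).card := by
          refine Finset.sum_le_sum fun z hz => Finset.card_le_card fun x hx => ?_
          obtain ⟨x1, x2⟩ := Finset.mem_filter.1 hx
          simp only [Finset.mem_erase] at x1
          refine Finset.mem_filter.2 ⟨Finset.mem_sdiff.2 ⟨Finset.mem_erase.2 ⟨x1.1, x1.2.2⟩,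
            fun hxI => x2 (hvκ z hz x hxI (Ne.symm x1.2.1))⟩, x1.2.1, x2⟩
      _ = ∑ x ∈ (X.erase v) \ (I \ E), ((I \ E).filter fun z => x ≠ z ∧ Γ' z x v).card := by
          simp only [Finset.card_filter]
          exact Finset.sum_comm
      _ ≤ ∑ x ∈ (X.erase v) \ (I \ E), φ := by
          refine Finset.sum_le_sum fun x hx => ?_
          obtain ⟨hx1, hx2⟩ := Finset.mem_sdiff.1 hx
          obtain ⟨hxv, hxX⟩ := Finset.mem_erase.1 hx1
          rw [hφeq, ← (hout x hxX v hvX hxv).2]
          refine Finset.card_le_card fun z hz => ?_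
          obtain ⟨z1, z2, z3⟩ := Finset.mem_filter.1 hz
          exact Finset.mem_filter.2 ⟨Finset.mem_erase.2 ⟨(Finset.mem_erase.1 (hI''X z1)).1,
            Finset.mem_erase.2 ⟨Ne.symm z2, (Finset.mem_erase.1 (hI''X z1)).2⟩⟩, z3⟩
      _ = _ := by rw [Finset.sum_const, smul_eq_mul]
  have hφ0 : φ = 0 := by
    by_contra hne
    have h1 := Nat.le_of_mul_le_mul_right hcount (Nat.pos_of_ne_zero hne)
    rw [Finset.card_sdiff_of_subset hI''X, Finset.card_erase_of_mem hvX,
      Finset.card_sdiff_of_subset hEI, hEc, hXc] at h1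
    -- the points outside `U` outside `F` contain an orbit or are absent
    obtain ⟨c, hc⟩ : (Fᶜ \ U).Nonempty := Finset.card_pos.1 (by
      rw [Finset.card_sdiff_of_subset hUout, hUc, Finset.card_compl, hn]; omega)
    obtain ⟨hc1, hc2⟩ := Finset.mem_sdiff.1 hc
    have hsub : orb K c ⊆ Fᶜ \ U := by
      intro a ha
      refine Finset.mem_sdiff.2 ⟨Finset.mem_compl.2 (Good.orb_disjoint (Finset.mem_compl.1 hc1) ha),
        fun haU => hc2 ?_⟩
      obtain ⟨k, hk, rfl⟩ := mem_orb.1 ha
      simpa using hKU k⁻¹ (K.inv_mem hk) _ haU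
    have h3 := Finset.card_le_card hsub
    rw [Finset.card_sdiff_of_subset hUout, hUc, Finset.card_compl, hn] at h3
    have h4 := hF.lt_orb_card h htf.le (Finset.mem_compl.1 hc1)
    change t < (orb K c).card at h4
    omega
  have hz1X : z1 ∈ X := Finset.mem_sdiff.2
    ⟨hIF (hA' (Finset.mem_sdiff.1 hz1).1), (Finset.mem_sdiff.1 hz1).2⟩
  have hz2X : z2 ∈ X := Finset.mem_sdiff.2
    ⟨hIF (hA' (Finset.mem_sdiff.1 hz2).1), (Finset.mem_sdiff.1 hz2).2⟩
  have hiff : ∀ r ∈ F \ A', (Γ z1 z2 r ↔ κ) := by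
    intro r hr
    obtain ⟨r1, r2⟩ := Finset.mem_sdiff.1 hr
    have hrX : r ∈ X := Finset.mem_sdiff.2 ⟨r1, fun e => r2 (hEA e)⟩
    have hr1 : z1 ≠ r := fun e => r2 (e ▸ (Finset.mem_sdiff.1 hz1).1)
    have hr2 : z2 ≠ r := fun e => r2 (e ▸ (Finset.mem_sdiff.1 hz2).1)
    by_contra hcon
    have h0 := (hout z1 hz1X r hrX hr1).1
    rw [hφ0, Finset.card_eq_zero, Finset.filter_eq_empty_iff] at h0
    exact h0 (Finset.mem_erase.2 ⟨hr2, Finset.mem_erase.2 ⟨hz12.symm, hz2X⟩⟩) hcon
  have hκ : κ := (hiff x0 hx0).1 ⟨1, Subgroup.one_mem _, one_smul _ _, one_smul _ _, one_smul _ _⟩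
  obtain ⟨γ, hγ, hγ1, hγ2, hγx⟩ := (hiff q hq).2 hκ
  refine mem_orb.2 ⟨γ, mem_fixing.2 fun a ha => ?_, hγx⟩
  by_cases haE : a ∈ E
  · exact mem_fixing.1 hγ a haE
  · have : a ∈ A' \ E := Finset.mem_sdiff.2 ⟨ha, haE⟩
    rw [hzs, Finset.mem_insert, Finset.mem_singleton] at this
    rcases this with rfl | rfl
    exacts [hγ1, hγ2]

end Good

end

end Cfsg.Agent.PronHalf
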