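import Cfsg.Agent.Lib.PronormalHalf.Fisher

/-!
The bound holds unless the degree is `2 |F|` and the group is triply transitive.
-/

set_option autoImplicit false
set_option linter.unusedSectionVars false

open scoped Pointwise
open MulAction

namespace Cfsg.Agent.PronHalf

universe u v

noncomputable section

attribute [local instance] Classical.propDecidable

theorem even_card_of_swap {β : Type*} [Fintype β] [DecidableEq β] {P : Finset (β × β)}
    (hP : ∀ p ∈ P, p.swap ∈ P) (hd : ∀ p ∈ P, p.1 ≠ p.2) : Even P.card := by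
  set e := Fintype.equivFin β
  have h : (P.filter fun p => e p.1 < e p.2).card = (P.filter fun p => ¬ e p.1 < e p.2).card := by
    refine Finset.card_bij' (fun p _ => p.swap) (fun p _ => p.swap) ?_ ?_ ?_ ?_
    · intro p hp
      simp only [Finset.mem_filter, not_lt] at hp ⊢
      exact ⟨hP p hp.1, le_of_lt hp.2⟩
    · intro p hp
      simp only [Finset.mem_filter, not_lt] at hp ⊢
      exact ⟨hP p hp.1, lt_of_le_of_ne hp.2 (fun h => hd p hp.1 (e.injective h.symm))⟩
    · intro p _; exact Prod.swap_swap p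
    · intro p _; exact Prod.swap_swap p
  rw [← Finset.card_filter_add_card_filter_not (s := P) (fun p => e p.1 < e p.2), ← h]
  exact ⟨_, rfl⟩

variable {G : Type u} [Group G] [Finite G] {α : Type v} [Fintype α] [DecidableEq α] [MulAction G α]

namespace Good

variable {F : Finset α} (hF : Good G F)
include hF

theorem lt_card {t : ℕ} (h : Upto G α t) (ht : t ≤ F.card) (hn : Fintype.card α = 2 * F.card)
    (hne : F ≠ Finset.univ) : t < F.card := by
  obtain ⟨c, hc⟩ : ∃ c, c ∉ F := by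
    by_contra hh; push Not at hh; exact hne (Finset.eq_univ_iff_forall.2 hh)
  have h1 := hF.lt_orb_card h ht hc
  have h2 : (orb (fixingSubgroup G (F : Set α)) c).card ≤ Fᶜ.card :=
    Finset.card_le_card fun w hw => Finset.mem_compl.2 (Good.orb_disjoint hc hw)
  rw [Finset.card_compl, hn] at h2
  omega

/-- The points in every translate through `a` and `b`. -/
theorem two_sep (h : Upto G α 2) (hn : Fintype.card α = 2 * F.card) (hne : F ≠ Finset.univ)
    {a b : α} (ha : a ∈ F) (hb : b ∈ F) (hab : a ≠ b) :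
    ∀ w, w ∉ ({a, b} : Finset α) → Sep G F {a, b} w := by
  let _ : Fintype G := Fintype.ofFinite G
  set S := fun x y : α => Finset.univ.filter fun g : G => x ∈ g • F ∧ y ∈ g • F with hS
  have memS : ∀ g x y, g ∈ S x y ↔ x ∈ g • F ∧ y ∈ g • F := fun g x y => by simp [hS]
  set L := fun x y : α => Finset.univ.filter fun w : α => ∀ g ∈ S x y, w ∈ g • F with hL
  have memL : ∀ w x y, w ∈ L x y ↔ ∀ g ∈ S x y, w ∈ g • F := fun w x y => by simp [hL]
  have hmap : ∀ x y x' y' : α, x ≠ y → x' ≠ y' →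
      (S x y).card = (S x' y').card ∧ (L x y).card = (L x' y').card := by
    intro x y x' y' hxy hxy'
    obtain ⟨u, hu⟩ := h.exists_map (ι := Fin 2) (a := ![x, y]) (b := ![x', y']) (by simp)
      (by intro i j; fin_cases i <;> fin_cases j <;> simp [hxy, hxy.symm])
      (by intro i j; fin_cases i <;> fin_cases j <;> simp [hxy', hxy'.symm])
    have h0 : u • x = x' := hu 0
    have h1 : u • y = y' := hu 1
    have hs : ∀ g, u * g ∈ S x' y' ↔ g ∈ S x y := fun g => by
      simp [memS, mul_smul, ← h0, ← h1]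
    refine ⟨Finset.card_equiv (Equiv.mulLeft u) fun g => (hs g).symm, ?_⟩
    refine Finset.card_equiv (MulAction.toPerm u) fun w => ?_
    rw [memL, memL, MulAction.toPerm_apply]
    constructor
    · intro hw g hg
      have h2 := hw (u⁻¹ * g) ((hs _).1 (by rwa [mul_inv_cancel_left]))
      rw [mul_smul, ← Finset.smul_mem_smul_finset_iff u, smul_inv_smul] at h2
      exact h2
    · intro hw g hg
      have h2 := hw (u * g) ((hs g).2 hg)
      rwa [mul_smul, Finset.smul_mem_smul_finset_iff] at h2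
  have hclosed : ∀ x y p q : α, x ≠ y → p ≠ q → p ∈ L x y → q ∈ L x y →
      S p q = S x y ∧ L p q = L x y := by
    intro x y p q hxy hpq hp hq
    have h1 : S x y = S p q := Finset.eq_of_subset_of_card_le
      (fun g hg => (memS g p q).2 ⟨(memL _ _ _).1 hp g hg, (memL _ _ _).1 hq g hg⟩)
      ((hmap p q x y hpq hxy).1.le)
    exact ⟨h1.symm, by simp only [hL, h1]⟩
  have hselfl : ∀ x y, x ∈ L x y := fun x y => (memL _ _ _).2 fun g hg => ((memS _ _ _).1 hg).1
  have hselfr : ∀ x y, y ∈ L x y := fun x y => (memL _ _ _).2 fun g hg => ((memS _ _ _).1 hg).2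
  obtain ⟨c, hc⟩ : ∃ c, c ∉ F := by
    by_contra hh; push Not at hh; exact hne (Finset.eq_univ_iff_forall.2 hh)
  have hmeet : ∀ x ∈ F, ∀ w ∈ L x c, w ≠ x → w ∉ F := by
    intro x hx w hw hwx hwF
    have hxc : x ≠ c := fun e => hc (e ▸ hx)
    obtain ⟨h1, -⟩ := hclosed x c x w hxc hwx.symm (hselfl _ _) hw
    have h2 : (1 : G) ∈ S x w := (memS _ _ _).2 (by simp [hx, hwF])
    rw [h1, memS] at h2
    exact hc (by simpa using h2.2)
  have hdisj : (F : Set α).PairwiseDisjoint fun x => L x c \ {x, c} := by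
    intro x hx x' hx' hne'
    refine Finset.disjoint_left.2 fun w hw hw' => ?_
    simp only [Finset.mem_sdiff, Finset.mem_insert, Finset.mem_singleton, not_or] at hw hw'
    have hxc : x ≠ c := fun e => hc (e ▸ hx)
    have hxc' : x' ≠ c := fun e => hc (e ▸ hx')
    have h1 := (hclosed x c w c hxc hw.2.2 hw.1 (hselfr _ _)).2
    have h2 := (hclosed x' c w c hxc' hw'.2.2 hw'.1 (hselfr _ _)).2
    exact hmeet x hx x' (by rw [← h1, h2]; exact hselfl _ _) (Ne.symm hne') hx'
  have hq : (L a b).card ≤ 2 := by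
    by_contra hq
    have hsub : F.biUnion (fun x => L x c \ {x, c}) ⊆ Fᶜ.erase c := by
      intro w hw
      obtain ⟨x, hx, hw⟩ := Finset.mem_biUnion.1 hw
      simp only [Finset.mem_sdiff, Finset.mem_insert, Finset.mem_singleton, not_or] at hw
      exact Finset.mem_erase.2 ⟨hw.2.2, Finset.mem_compl.2 (hmeet x hx w hw.1 hw.2.1)⟩
    have h1 := Finset.card_le_card hsub
    rw [Finset.card_biUnion hdisj, Finset.card_erase_of_mem (Finset.mem_compl.2 hc),
      Finset.card_compl, hn] at h1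
    have h2 : F.card * 1 ≤ ∑ x ∈ F, (L x c \ {x, c}).card := by
      rw [← smul_eq_mul]
      refine Finset.card_nsmul_le_sum _ _ _ fun x hx => ?_
      have hxc : x ≠ c := fun e => hc (e ▸ hx)
      have e := (hmap x c a b hxc hab).2
      have h3 := Finset.card_le_card_sdiff_add_card (s := L x c) (t := {x, c})
      have h4 : ({x, c} : Finset α).card ≤ 2 := Finset.card_le_two
      omega
    have hF0 : 0 < F.card := Finset.card_pos.2 ⟨a, ha⟩
    omega
  intro w hw
  by_contra hcon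
  have hwL : w ∈ L a b := (memL _ _ _).2 fun g hg => by
    by_contra hwg
    exact hcon ⟨g, by
      intro z hz
      simp only [Finset.mem_insert, Finset.mem_singleton] at hz
      rcases hz with rfl | rfl
      exacts [((memS _ _ _).1 hg).1, ((memS _ _ _).1 hg).2], hwg⟩
  have h5 : ({w, a, b} : Finset α) ⊆ L a b := by
    intro z hz
    simp only [Finset.mem_insert, Finset.mem_singleton] at hz
    rcases hz with rfl | rfl | rfl
    exacts [hwL, hselfl _ _, hselfr _ _]
  have h6 := (Finset.card_le_card h5).trans hq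
  simp only [Finset.mem_insert, Finset.mem_singleton, not_or] at hw
  rw [Finset.card_insert_of_notMem (by simp [hw.1, hw.2]), Finset.card_pair hab] at h6
  omega

variable [IsPretransitive G α]

/-- Either the bound holds, or the degree is `2 |F|` and the group is doubly transitive. -/
theorem bound_or_two (ih : Bound.{u, v} (Fintype.card α)) (hne : F ≠ Finset.univ) :
    2 * F.card + 1 ≤ Fintype.card α ∨ (Fintype.card α = 2 * F.card ∧ Upto G α 2) := by
  by_contra hcon
  rw [not_or] at hcon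
  obtain ⟨hlt, htwo⟩ := hcon
  have hcl : ∀ a, (cls G F a).card ≤ 1 := fun a => by
    by_contra h
    exact hlt (hF.bound_of_nontrivial_cls ih (a0 := a) (by omega) hne)
  have hsep : ∀ a b, b ∉ ({a} : Finset α) → Sep G F {a} b := by
    intro a b hb
    obtain ⟨g, hg1, hg2⟩ := hF.card_translates_ne (a := a) (b := b) (fun hmem =>
      Finset.notMem_singleton.1 hb (Finset.card_le_one.1 (hcl a) b hmem a
        (mem_cls.2 fun _ => Iff.rfl)))
    exact ⟨g, Finset.singleton_subset_iff.2 hg1, hg2⟩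
  have hkey : ∀ a ∈ F, Fintype.card α = 2 * F.card ∧
      ∀ x y, x ≠ a → y ≠ a → y ∈ orb (fixingSubgroup G (({a} : Finset α) : Set α)) x := by
    intro a ha
    obtain ⟨h1, h2, h3⟩ := hF.slack ih (A := {a}) (Finset.singleton_subset_iff.2 ha)
      ⟨a, Finset.mem_singleton_self a⟩ (hsep a)
    set 𝒪 := (Finset.univ \ {a}).image
      (orb (fixingSubgroup G (({a} : Finset α) : Set α))) with h𝒪
    have h4 : ∑ O ∈ 𝒪, (2 * (F ∩ O).card + 1) ≤ ∑ O ∈ 𝒪, O.card := Finset.sum_le_sum h1
    rw [Finset.sum_add_distrib, ← Finset.mul_sum, Finset.sum_const, smul_eq_mul, mul_one,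
      h2, h3, Finset.card_singleton] at h4
    have hF1 : 1 ≤ F.card := Finset.card_pos.2 ⟨a, ha⟩
    have hO : 1 ≤ 𝒪.card := by
      obtain ⟨c, hc⟩ : ∃ c, c ∉ F := by
        by_contra hh; push Not at hh; exact hne (Finset.eq_univ_iff_forall.2 hh)
      exact Finset.card_pos.2 ⟨_, Finset.mem_image_of_mem _ (Finset.mem_sdiff.2
        ⟨Finset.mem_univ c, Finset.notMem_singleton.2 (fun e => hc (e ▸ ha))⟩)⟩
    refine ⟨by omega, fun x y hx hy => ?_⟩
    have h5 := Finset.card_le_one.1 (show 𝒪.card ≤ 1 by omega) _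
      (Finset.mem_image_of_mem _ (Finset.mem_sdiff.2 ⟨Finset.mem_univ x, by simpa using hx⟩)) _
      (Finset.mem_image_of_mem _ (Finset.mem_sdiff.2 ⟨Finset.mem_univ y, by simpa using hy⟩))
    rw [h5]
    exact self_mem_orb _ y
  rcases F.eq_empty_or_nonempty with hFe | ⟨a, ha⟩
  · refine hlt ?_
    rw [hFe]
    obtain ⟨c, -⟩ : ∃ c, c ∉ F := by
      by_contra hh; push Not at hh; exact hne (Finset.eq_univ_iff_forall.2 hh)
    simpa using Nat.succ_le_of_lt (Fintype.card_pos_iff.2 ⟨c⟩ : 0 < Fintype.card α)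
  refine htwo ⟨(hkey a ha).1, upto_one.succ (F := F) (Finset.card_pos.2 ⟨a, ha⟩) ?_⟩
  intro A hA hA1 x y hx hy
  obtain ⟨a', rfl⟩ := Finset.card_eq_one.1 hA1
  exact (hkey a' (Finset.singleton_subset_iff.1 hA)).2 x y
    (Finset.notMem_singleton.1 hx) (Finset.notMem_singleton.1 hy)

omit [IsPretransitive G α] in
theorem two_to_three (ih : Bound.{u, v} (Fintype.card α)) (h : Upto G α 2)
    (hn : Fintype.card α = 2 * F.card) (hne : F ≠ Finset.univ) (hF2 : 2 ≤ F.card) :
    Upto G α 3 := by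
  refine h.succ hF2 ?_
  intro A hA hA2 x y hx hy
  obtain ⟨a, b, hab, rfl⟩ := Finset.card_eq_two.1 hA2
  have ha : a ∈ F := hA (by simp)
  have hb : b ∈ F := hA (by simp)
  obtain ⟨h1, h2, h3⟩ := hF.slack ih hA ⟨a, by simp⟩ (hF.two_sep h hn hne ha hb hab)
  set K2 := fixingSubgroup G ((({a, b} : Finset α)) : Set α) with hK2
  set 𝒪 := (Finset.univ \ {a, b}).image (orb K2) with h𝒪
  have h4 : ∑ O ∈ 𝒪, (2 * (F ∩ O).card + 1) ≤ ∑ O ∈ 𝒪, O.card := Finset.sum_le_sum h1
  rw [Finset.sum_add_distrib, ← Finset.mul_sum, Finset.sum_const, smul_eq_mul, mul_one,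
    h2, h3, hA2, hn] at h4
  have hmemO : ∀ w, w ∉ ({a, b} : Finset α) → orb K2 w ∈ 𝒪 := fun w hw =>
    Finset.mem_image_of_mem _ (Finset.mem_sdiff.2 ⟨Finset.mem_univ w, hw⟩)
  by_contra hxy
  have hne2 : orb K2 x ≠ orb K2 y := fun e => hxy (e ▸ self_mem_orb _ y)
  have hpair : ({orb K2 x, orb K2 y} : Finset (Finset α)) ⊆ 𝒪 := by
    intro O hO
    simp only [Finset.mem_insert, Finset.mem_singleton] at hO
    rcases hO with rfl | rfl
    exacts [hmemO x hx, hmemO y hy]
  have h𝒪2 : 𝒪 = {orb K2 x, orb K2 y} :=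
    (Finset.eq_of_subset_of_card_le hpair (by rw [Finset.card_pair hne2]; omega)).symm
  rw [h𝒪2, Finset.sum_pair hne2] at h2 h3
  have g1 := h1 _ (hmemO x hx)
  have g2 := h1 _ (hmemO y hy)
  rw [hA2, hn] at h2
  rw [hA2] at h3
  -- both orbits are tight
  set n1 := (orb K2 x).card
  set n2 := (orb K2 y).card
  have t1 : Odd n1 := ⟨(F ∩ orb K2 x).card, by omega⟩
  have t2 : Odd n2 := ⟨(F ∩ orb K2 y).card, by omega⟩
  set U : Finset α := Finset.univ.erase a with hU
  set Rel : α → α → α → Prop := fun w p q => ∃ g : G, g • a = a ∧ g • b = p ∧ g • w = q with hRel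
  set Pw : α → Finset (α × α) := fun w => (U ×ˢ U).filter fun pq => Rel w pq.1 pq.2 with hPw
  have memU : ∀ w, w ∈ U ↔ w ≠ a := fun w => by simp [hU]
  have hmapab : ∀ p, p ≠ a → ∃ g : G, g • a = a ∧ g • b = p := by
    intro p hp
    obtain ⟨g, hg⟩ := h.exists_map (ι := Fin 2) (a := ![a, b]) (b := ![a, p]) (by simp)
      (by intro i j; fin_cases i <;> fin_cases j <;> simp [hab, hab.symm])
      (by intro i j; fin_cases i <;> fin_cases j <;> simp [hp, hp.symm])
    exact ⟨g, hg 0, hg 1⟩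
  have hK2mem : ∀ g : G, g ∈ K2 ↔ g • a = a ∧ g • b = b := fun g => by
    rw [hK2, mem_fixing]; simp
  have hPcard : ∀ w, w ∉ ({a, b} : Finset α) → (Pw w).card = U.card * (orb K2 w).card := by
    intro w hw
    rw [Finset.card_eq_sum_card_fiberwise (f := Prod.fst) (t := U)
      (fun pq hpq => (Finset.mem_product.1 (Finset.mem_filter.1 hpq).1).1),
      Finset.sum_const_nat]
    intro p hp
    obtain ⟨g, hga, hgb⟩ := hmapab p ((memU p).1 hp)
    refine (Finset.card_bij (fun z _ => (p, g • z)) ?_ ?_ ?_).symm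
    · intro z hz
      obtain ⟨k, hk, rfl⟩ := mem_orb.1 hz
      obtain ⟨hka, hkb⟩ := (hK2mem k).1 hk
      refine Finset.mem_filter.2 ⟨Finset.mem_filter.2 ⟨Finset.mem_product.2 ⟨hp, (memU _).2 ?_⟩,
        g * k, by rw [mul_smul, hka, hga], by rw [mul_smul, hkb, hgb], mul_smul _ _ _⟩, rfl⟩
      intro e
      rw [← hga] at e
      have := MulAction.injective g e
      rw [← hka] at this
      exact hw (by simp [MulAction.injective k this])
    · intro z _ z' _ e
      exact MulAction.injective g (Prod.mk.inj e).2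
    · intro pq hpq
      obtain ⟨hpq, hfst⟩ := Finset.mem_filter.1 hpq
      obtain ⟨-, g', ha', hb', hw'⟩ := Finset.mem_filter.1 hpq
      refine ⟨g⁻¹ • pq.2, mem_orb.2 ⟨g⁻¹ * g', (hK2mem _).2 ⟨?_, ?_⟩, ?_⟩, ?_⟩
      · rw [mul_smul, ha', inv_smul_eq_iff, hga]
      · rw [mul_smul, hb', inv_smul_eq_iff, hgb, hfst]
      · rw [mul_smul, hw']
      · ext <;> simp [hfst]
  have hUodd : Odd U.card := by
    rw [hU, Finset.card_erase_of_mem (Finset.mem_univ a), Finset.card_univ, hn]
    exact ⟨F.card - 1, by omega⟩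
  have hoff : ∀ w, w ∉ ({a, b} : Finset α) → ∀ p q, Rel w p q → p ≠ q := by
    rintro w hw p q ⟨g, -, rfl, rfl⟩ e
    exact hw (by simp [MulAction.injective g e])
  have hnot : ∀ w, w ∉ ({a, b} : Finset α) → Odd (orb K2 w).card → ¬ Rel w w b := by
    intro w hw hodd hs
    have hev : Even (Pw w).card := by
      refine even_card_of_swap (fun pq hpq => ?_)
        (fun pq hpq => hoff w hw _ _ (Finset.mem_filter.1 hpq).2)
      obtain ⟨hm, g, ha', hb', hw'⟩ := Finset.mem_filter.1 hpq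
      obtain ⟨k, hka, hkb, hkw⟩ := hs
      obtain ⟨m1, m2⟩ := Finset.mem_product.1 hm
      exact Finset.mem_filter.2 ⟨Finset.mem_product.2 ⟨m2, m1⟩,
        g * k, by rw [mul_smul, hka, ha'], by rw [mul_smul, hkb, hw']; rfl,
        by rw [mul_smul, hkw, hb']; rfl⟩
    rw [hPcard w hw] at hev
    exact (Nat.not_even_iff_odd.2 (hUodd.mul hodd)) hev
  have hcover : ∀ w, w ∉ ({a, b} : Finset α) → w ∈ orb K2 x ∨ w ∈ orb K2 y := by
    intro w hw
    have := hmemO w hw
    rw [h𝒪2, Finset.mem_insert, Finset.mem_singleton] at this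
    rcases this with e | e
    exacts [Or.inl (e ▸ self_mem_orb _ w), Or.inr (e ▸ self_mem_orb _ w)]
  have hRelorb : ∀ w w', w' ∈ orb K2 w → ∀ p q, Rel w' p q → Rel w p q := by
    rintro w w' hw' p q ⟨g, ga, gb, gw⟩
    obtain ⟨k, hk, rfl⟩ := mem_orb.1 hw'
    obtain ⟨hka, hkb⟩ := (hK2mem k).1 hk
    exact ⟨g * k, by rw [mul_smul, hka, ga], by rw [mul_smul, hkb, gb], by rw [mul_smul, gw]⟩
  have htot : ∀ p q, p ≠ a → q ≠ a → p ≠ q → Rel x p q ∨ Rel y p q := by
    intro p q hp hq hpq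
    obtain ⟨g, hga, hgb⟩ := hmapab p hp
    have hw : g⁻¹ • q ∉ ({a, b} : Finset α) := by
      simp only [Finset.mem_insert, Finset.mem_singleton, inv_smul_eq_iff, hga, hgb, not_or]
      exact ⟨hq, hpq.symm⟩
    have hr : Rel (g⁻¹ • q) p q := ⟨g, hga, hgb, smul_inv_smul _ _⟩
    rcases hcover _ hw with e | e
    exacts [Or.inl (hRelorb _ _ e p q hr), Or.inr (hRelorb _ _ e p q hr)]
  have hxa : x ≠ a ∧ x ≠ b := by simpa using hx
  have hya : y ≠ a ∧ y ≠ b := by simpa using hy
  have hxy' : Rel y x b := (htot x b hxa.1 hab.symm hxa.2).resolve_left (hnot x hx t1)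
  have hyx' : Rel x y b := (htot y b hya.1 hab.symm hya.2).resolve_right (hnot y hy t2)
  have hswap : ∀ w w', Rel w' w b → ∀ p q, Rel w p q → Rel w' q p := by
    rintro w w' ⟨k, ka, kb, kw⟩ p q ⟨g, ga, gb, gw⟩
    exact ⟨g * k, by rw [mul_smul, ka, ga], by rw [mul_smul, kb, gw],
      by rw [mul_smul, kw, gb]⟩
  have hle : ∀ w w', w ∉ ({a, b} : Finset α) → w' ∉ ({a, b} : Finset α) → Rel w' w b →
      (orb K2 w).card ≤ (orb K2 w').card := by
    intro w w' hw hw' hr
    have h5 : (Pw w).card ≤ (Pw w').card := by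
      refine Finset.card_le_card_of_injOn Prod.swap (fun pq hpq => ?_)
        (fun p _ q _ e => Prod.swap_injective e)
      obtain ⟨hm, hr'⟩ := Finset.mem_filter.1 hpq
      obtain ⟨m1, m2⟩ := Finset.mem_product.1 hm
      exact Finset.mem_filter.2 ⟨Finset.mem_product.2 ⟨m2, m1⟩, hswap w w' hr _ _ hr'⟩
    rw [hPcard w hw, hPcard w' hw'] at h5
    exact Nat.le_of_mul_le_mul_left h5 (Nat.pos_of_ne_zero (fun e => by simp [e] at hUodd))
  have hn12 : n1 = n2 := le_antisymm (hle x y hx hy hxy') (hle y x hy hx hyx')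
  have hexcl : ∀ p q, Rel x p q → ¬ Rel x q p := by
    rintro p q hr ⟨g, ga, gb, gw⟩
    obtain ⟨g', ga', gb', gw'⟩ := hr
    refine hnot x hx t1 ⟨g'⁻¹ * g, ?_, ?_, ?_⟩
    · rw [mul_smul, ga, inv_smul_eq_iff, ga']
    · rw [mul_smul, gb, inv_smul_eq_iff, gw']
    · rw [mul_smul, gw, inv_smul_eq_iff, gb']
  -- a point outside `F`
  obtain ⟨c, hc⟩ : ∃ c, c ∉ F := by
    by_contra hh; push Not at hh; exact hne (Finset.eq_univ_iff_forall.2 hh)
  obtain ⟨g0, hg0⟩ : ∃ g0 : G, g0 • a = c := by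
    obtain ⟨g, hg⟩ := h.exists_map (ι := Fin 1) (a := ![a]) (b := ![c]) (by simp)
      (Function.injective_of_subsingleton _) (Function.injective_of_subsingleton _)
    exact ⟨g, hg 0⟩
  set D : α → α → Prop := fun p q => Rel x (g0⁻¹ • p) (g0⁻¹ • q) with hD
  have hDor : ∀ p ∈ F, ∀ q ∈ F, p ≠ q → (D p q ↔ ¬ D q p) := by
    intro p hp q hq hpq
    have na : ∀ r ∈ F, g0⁻¹ • r ≠ a := fun r hr e => hc (by
      rw [inv_smul_eq_iff, hg0] at e; exact e ▸ hr)
    constructor
    · exact fun hr => hexcl _ _ hr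
    · intro hnr
      rcases htot _ _ (na p hp) (na q hq) (fun e => hpq (MulAction.injective _ e)) with e | e
      · exact e
      · exact absurd (hswap y x hyx' _ _ e) hnr
  have hDinv : ∀ u ∈ orbStab (G := G) F ∅ (orb (fixingSubgroup G (F : Set α)) c),
      ∀ p ∈ F, ∀ q ∈ F, D p q → D (u • p) (u • q) := by
    intro u hu p hp q hq hr
    obtain ⟨huF, -, huR⟩ := mem_orbStab.1 hu
    have : u • c ∈ orb (fixingSubgroup G (F : Set α)) c := by
      have := Finset.smul_mem_smul_finset (a := u) (self_mem_orb (fixingSubgroup G (F : Set α)) c)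
      rwa [huR] at this
    obtain ⟨k, hk, hkc⟩ := mem_orb.1 this
    have hku : ∀ r ∈ F, (k⁻¹ * u) • r = u • r := by
      intro r hr
      rw [mul_smul, inv_smul_eq_iff, mem_fixing.1 hk]
      have := Finset.smul_mem_smul_finset (a := u) hr
      rwa [huF] at this
    obtain ⟨g, ga, gb, gw⟩ := hr
    refine ⟨g0⁻¹ * (k⁻¹ * u) * g0 * g, ?_, ?_, ?_⟩
    · simp only [mul_smul, ga, hg0, ← hkc, inv_smul_smul]
      rw [inv_smul_eq_iff, hg0]
    · rw [mul_smul, gb, mul_smul, smul_inv_smul, mul_smul, hku p hp]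
    · rw [mul_smul, gw, mul_smul, smul_inv_smul, mul_smul, hku q hq]
  set d : α → ℕ := fun p => (F.filter fun q => q ≠ p ∧ D p q).card with hd
  have hdconst : ∀ p ∈ F, ∀ p' ∈ F, d p ≤ d p' := by
    intro p hp p' hp'
    obtain ⟨u, hu, hup⟩ := hF.orbStab_transitive h (by omega) hn hc (E := ∅) (by simp) (by simp)
      (a := p) (b := p') (by simpa using hp) (by simpa using hp')
    refine Finset.card_le_card_of_injOn (fun q => u • q) (fun q hq => ?_)
      (fun _ _ _ _ e => MulAction.injective u e)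
    obtain ⟨hqF, hqp, hq⟩ := Finset.mem_filter.1 hq
    refine Finset.mem_filter.2 ⟨?_, fun e => hqp (MulAction.injective u (e.trans hup.symm)),
      hup ▸ hDinv u hu p hp q hqF hq⟩
    have := Finset.smul_mem_smul_finset (a := u) hqF
    rwa [(mem_orbStab.1 hu).1] at this
  have hsum : ∑ p ∈ F, d p + ∑ p ∈ F, d p = F.card * (F.card - 1) := by
    have e1 : ∑ p ∈ F, d p = ∑ p ∈ F, (F.filter fun q => q ≠ p ∧ D q p).card := by
      simp only [hd, Finset.card_filter]
      rw [Finset.sum_comm]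
      exact Finset.sum_congr rfl fun p _ => Finset.sum_congr rfl fun q _ => by
        simp [ne_comm]
    conv_lhs => arg 2; rw [e1]
    rw [← Finset.sum_add_distrib, Finset.sum_const_nat]
    intro p hp
    rw [← Finset.card_union_of_disjoint, ← Finset.card_erase_of_mem hp]
    · congr 1
      ext q
      simp only [Finset.mem_union, Finset.mem_filter, Finset.mem_erase]
      constructor
      · rintro (⟨a1, a2, -⟩ | ⟨a1, a2, -⟩) <;> exact ⟨a2, a1⟩
      · rintro ⟨a2, a1⟩
        by_cases e : D p q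
        · exact Or.inl ⟨a1, a2, e⟩
        · exact Or.inr ⟨a1, a2, (hDor q a1 p hp a2).2 e⟩
    · refine Finset.disjoint_left.2 fun q hq hq' => ?_
      simp only [Finset.mem_filter] at hq hq'
      exact ((hDor p hp q hq.1 (Ne.symm hq.2.1)).1 hq.2.2) hq'.2.2
  obtain ⟨p0, hp0⟩ : F.Nonempty := ⟨a, ha⟩
  rw [Finset.sum_const_nat (m := d p0)
    (fun p hp => le_antisymm (hdconst p hp p0 hp0) (hdconst p0 hp0 p hp))] at hsum
  have hfin : 2 * d p0 = F.card - 1 := by
    have h7 : F.card * (2 * d p0) = F.card * (F.card - 1) := by rw [← hsum]; ring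
    exact Nat.eq_of_mul_eq_mul_left (by omega) h7
  obtain ⟨r, hr⟩ := t1
  omega

end Good

end

end Cfsg.Agent.PronHalf
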